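import Cfsg.Agent.Lib.Fusion.Pearl.TwoGenerator

/-!
# The class is at most three

In `X / γ₅` the four commutators `[x, [y, [e, f]]]`, `x, y ∈ {e, f}`, lie in a group of order at most
`p` fixed by both transvections, so they vanish.
-/

set_option autoImplicit false

namespace CfsgLib.Fusion.Pearl

open Cfsg CfsgLib CfsgLib.Fusion CfsgLib.Fusion.RankThree CfsgLib.Fusion.TransvAut
open scoped commutatorElement

variable {p : ℕ} [hp : Fact p.Prime] {X : Type*} [Group X] {σ τ : MulAut X} {e f : X} [Finite X]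
  (hX : IsPGroup p X) (hP : Pair p σ τ e f) (hΦ : frattini X = commutator X)

include hX hP hΦ in
/-- The facts on `γ₃ / γ₄`. -/
theorem Pair.gamma_three (hp2 : p ≠ 2) :
    (⁅e, f⁆ ^ p ∈ lcsTop X 3 ∧ ⁅e, ⁅e, f⁆⁆ ^ p ∈ lcsTop X 3 ∧ ⁅f, ⁅e, f⁆⁆ ^ p ∈ lcsTop X 3) ∧
    (∀ w ∈ lcsTop X 2, ∃ a b : ℤ, ∃ u ∈ lcsTop X 3,
      w = ⁅e, ⁅e, f⁆⁆ ^ a * ⁅f, ⁅e, f⁆⁆ ^ b * u) ∧
    (lcsTop X 2 ≠ ⊥ → ∀ a b : ℤ, ⁅e, ⁅e, f⁆⁆ ^ a * ⁅f, ⁅e, f⁆⁆ ^ b ∈ lcsTop X 3 →
      (p : ℤ) ∣ a ∧ (p : ℤ) ∣ b) := by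
  obtain ⟨π, hπ⟩ : ∃ π, π = QuotientGroup.mk' (lcsTop X 3) := ⟨_, rfl⟩
  have hc : ∀ {u : X}, u ∈ lcsTop X 2 → π u ∈ Subgroup.center (X ⧸ lcsTop X 3) := fun hu => by
    rw [hπ]; exact central_image 2 hu
  have hone : ∀ {u : X}, u ∈ lcsTop X 3 → π u = 1 := fun hu => by
    rw [hπ]; exact (QuotientGroup.eq_one_iff _).2 hu
  have hmem : ∀ {u : X}, π u = 1 → u ∈ lcsTop X 3 := fun hu => by
    rw [hπ] at hu; exact (QuotientGroup.eq_one_iff _).1 hu
  obtain ⟨E, hE⟩ : ∃ E, E = π e := ⟨_, rfl⟩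
  obtain ⟨G, hG⟩ : ∃ G, G = π f := ⟨_, rfl⟩
  obtain ⟨C, hC⟩ : ∃ C, C = π ⁅e, f⁆ := ⟨_, rfl⟩
  have hc1 : ⁅e, f⁆ ∈ lcsTop X 1 := lcsTop_comm (k := 0) (Subgroup.mem_top e) f
  have hD : ∀ u : X, ⁅π u, C⁆ ∈ Subgroup.center (X ⧸ lcsTop X 3) := fun u => by
    rw [hC, ← map_commutatorElement]; exact hc (lcsTop_comm' hc1 u)
  have hpc : ∀ u : X, π u ^ p ∈ Subgroup.center (X ⧸ lcsTop X 3) := fun u => by
    rw [← map_pow]; exact hc (hP.pow_mem hX hΦ hp2 u)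
  have hDp : ∀ u : X, ⁅π u, C⁆ ^ p = 1 := fun u => by
    rw [← PGroups.comm_pow_left_of_central (hD u) p]
    exact br_eq_one (central_comm (hpc u) _)
  have hCp : C ^ p = 1 := by
    have hd : ⁅E, ⁅E, G⁆⁆ ∈ Subgroup.center (X ⧸ lcsTop X 3) := by
      rw [hE, hG, ← map_commutatorElement π e f, ← hC]; exact hD e
    have h := br_pow_choose hd p
    obtain ⟨c, hc'⟩ : p ∣ p.choose 2 :=
      hp.out.dvd_choose_self (by norm_num) (lt_of_le_of_ne hp.out.two_le (Ne.symm hp2))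
    rw [hc', pow_mul, show ⁅E, ⁅E, G⁆⁆ ^ p = 1 by
      rw [hE, hG, ← map_commutatorElement π e f, ← hC]; exact hDp e, one_pow, mul_one, hE, hG,
      ← map_commutatorElement π e f, ← hC, br_eq_one (central_comm (hpc e) _)] at h
    exact h.symm
  have hC1 : ∀ {w : X}, w ∈ lcsTop X 1 → ∃ m : ℤ, ∃ z ∈ Subgroup.center (X ⧸ lcsTop X 3),
      π w = C ^ m * z := fun hw => by
    obtain ⟨m, u, hu, rfl⟩ := hP.gamma_two hX hΦ hw
    exact ⟨m, π u, hc hu, by rw [map_mul, map_zpow, hC]⟩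
  have hDE : ⁅E, C⁆ ∈ Subgroup.center (X ⧸ lcsTop X 3) := by rw [hE]; exact hD e
  have hDG : ⁅G, C⁆ ∈ Subgroup.center (X ⧸ lcsTop X 3) := by rw [hG]; exact hD f
  have hbrx : ∀ x : X, ∃ a b : ℤ, ⁅π x, C⁆ = ⁅E, C⁆ ^ a * ⁅G, C⁆ ^ b := by
    intro x
    obtain ⟨a, b, φ, hφ, rfl⟩ := hP.gen' hΦ x
    obtain ⟨m, z, hz, hφe⟩ := hC1 hφ
    refine ⟨a, b, ?_⟩
    have h1 : ⁅π φ, C⁆ = 1 := br_eq_one (by
      rw [hφe]; exact ((Commute.refl C).zpow_left m).mul_left (central_comm hz C))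
    have hb : ⁅G ^ b, C⁆ ∈ Subgroup.center (X ⧸ lcsTop X 3) := by rw [hG, ← map_zpow]; exact hD _
    rw [map_mul, map_mul, map_zpow, map_zpow, ← hE, ← hG,
      br_mul_left (by rw [h1]; exact one_mem _), h1, one_mul, br_mul_left hb,
      br_zpow_left hDE, br_zpow_left hDG, (central_comm (zpow_mem hDG b) _).eq]
  refine ⟨⟨hmem (by rw [map_pow, ← hC, hCp]), hmem (by rw [map_pow, map_commutatorElement, ← hC, hDp]),
    hmem (by rw [map_pow, map_commutatorElement, ← hC, hDp])⟩, fun w hw => ?_, fun hne a b hab => ?_⟩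
  · have hle : lcsTop X 2 ≤ (Subgroup.zpowers ⁅E, C⁆ ⊔ Subgroup.zpowers ⁅G, C⁆).comap π := by
      show ⁅lcsTop X 1, (⊤ : Subgroup X)⁆ ≤ _
      rw [Subgroup.commutator_le]
      intro v hv x _
      obtain ⟨m, z, hz, hve⟩ := hC1 hv
      obtain ⟨a, b, hab⟩ := hbrx x
      rw [Subgroup.mem_comap, map_commutatorElement, hve, br_mul_left (by
          rw [br_eq_one (central_comm hz _)]; exact one_mem _), br_eq_one (central_comm hz _), one_mul,
        br_zpow_left (by rw [← commutatorElement_inv]; exact inv_mem (hD x)),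
        show ⁅C, π x⁆ = ⁅π x, C⁆⁻¹ from (commutatorElement_inv _ _).symm, hab]
      exact zpow_mem (inv_mem (Subgroup.mul_mem_sup (zpow_mem (Subgroup.mem_zpowers _) a)
        (zpow_mem (Subgroup.mem_zpowers _) b))) m
    haveI : (Subgroup.zpowers ⁅E, C⁆).Normal := ⟨fun v hv g => by
      obtain ⟨i, rfl⟩ := Subgroup.mem_zpowers_iff.1 hv
      rw [← (central_comm (zpow_mem hDE i) g).eq, mul_inv_cancel_right]
      exact zpow_mem (Subgroup.mem_zpowers _) i⟩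
    obtain ⟨u, hu, v, hv, huv⟩ := Subgroup.mem_sup_of_normal_left.1 (hle hw)
    obtain ⟨a, rfl⟩ := Subgroup.mem_zpowers_iff.1 hu
    obtain ⟨b, rfl⟩ := Subgroup.mem_zpowers_iff.1 hv
    refine ⟨a, b, _, hmem ?_, (mul_inv_cancel_left (⁅e, ⁅e, f⁆⁆ ^ a * ⁅f, ⁅e, f⁆⁆ ^ b) w).symm⟩
    rw [map_mul, map_inv, map_mul, map_zpow, map_zpow, map_commutatorElement π e,
      map_commutatorElement π f, ← hC, ← hE, ← hG, huv, inv_mul_cancel]
  · let K : Subgroup X := (Subgroup.centralizer (π '' (lcsTop X 1 : Set X))).comap π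
    have hK : ∀ {v : X}, v ∈ K ↔ ∀ w ∈ lcsTop X 1, ⁅w, v⁆ ∈ lcsTop X 3 := by
      intro v
      simp only [K, Subgroup.mem_comap, Subgroup.mem_centralizer_iff]
      refine ⟨fun h w hw => hmem ?_, fun h => ?_⟩
      · rw [map_commutatorElement]; exact br_eq_one (h _ ⟨w, hw, rfl⟩)
      · rintro _ ⟨w, hw, rfl⟩
        exact commutatorElement_eq_one_iff_mul_comm.1 (by rw [← map_commutatorElement, hone (h w hw)])
    have hinv : ∀ ρ : MulAut X, ∀ v ∈ K, ρ v ∈ K := fun ρ v hv => hK.2 fun w hw => by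
      have h := lcsTop_map ρ (hK.1 hv _ (lcsTop_map ρ⁻¹ hw))
      rwa [map_commutatorElement, MulAut.apply_inv_self] at h
    have hΦK : frattini X ≤ K := by
      intro v hv
      rw [hΦ, ← lcsTop_one] at hv
      refine Subgroup.mem_comap.2 (Subgroup.mem_centralizer_iff.2 ?_)
      rintro _ ⟨w, hw, rfl⟩
      obtain ⟨m, z, hz, hv'⟩ := hC1 hv
      obtain ⟨n, z', hz', hw'⟩ := hC1 hw
      rw [hv', hw']
      exact ((((Commute.refl C).zpow_zpow n m).mul_right (central_comm hz _).symm).mul_left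
        (central_comm hz' _)).eq
    have hv : e ^ a * f ^ b ∈ K := by
      refine Subgroup.mem_comap.2 (Subgroup.mem_centralizer_iff.2 ?_)
      rintro _ ⟨w, hw, rfl⟩
      obtain ⟨n, z, hz, hw'⟩ := hC1 hw
      have h0 : Commute (π (e ^ a * f ^ b)) C := by
        refine commutatorElement_eq_one_iff_mul_comm.1 ?_
        have hb : ⁅G ^ b, C⁆ ∈ Subgroup.center (X ⧸ lcsTop X 3) := by rw [hG, ← map_zpow]; exact hD _
        rw [map_mul, map_zpow, map_zpow, ← hE, ← hG, br_mul_left hb, br_zpow_left hDE,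
          br_zpow_left hDG, (central_comm (zpow_mem hDG b) _).eq, hE, hG, hC,
          ← map_commutatorElement, ← map_commutatorElement, ← map_zpow, ← map_zpow, ← map_mul]
        exact hone hab
      rw [hw']
      exact (((h0.symm).zpow_left n).mul_left (central_comm hz _)).eq
    refine hP.indep hX ?_
    by_contra hvΦ
    have hKtop := hP.invariant_all hX hΦK (hinv σ) (hinv τ) hv hvΦ
    haveI := hX.isNilpotent
    refine hne (eq_bot_of_le_commutator ?_)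
    show ⁅lcsTop X 1, (⊤ : Subgroup X)⁆ ≤ lcsTop X 3
    rw [Subgroup.commutator_le]
    exact fun v hv x _ => hK.1 (hKtop ▸ Subgroup.mem_top x) v hv

set_option maxHeartbeats 800000 in
include hX hP hΦ in
/-- `γ₄(X) = 1`. -/
theorem Pair.gamma_four_eq_bot (hp2 : p ≠ 2) (hsec : SecLE p X) : lcsTop X 3 = ⊥ := by
  classical
  have hp' := hp.out
  haveI := hX.isNilpotent
  by_cases h2 : lcsTop X 2 = ⊥
  · exact le_bot_iff.1 (h2 ▸ Subgroup.lowerCentralSeries_antitone (S := ⊤) (by norm_num : 2 ≤ 3))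
  obtain ⟨⟨hcp, hd1p, hd2p⟩, hdec, hind⟩ := hP.gamma_three hX hΦ hp2
  refine eq_bot_of_le_commutator (?_ : lcsTop X 3 ≤ lcsTop X 4)
  obtain ⟨π, hπ⟩ : ∃ π, π = QuotientGroup.mk' (lcsTop X 4) := ⟨_, rfl⟩
  have hc : ∀ {u : X}, u ∈ lcsTop X 3 → π u ∈ Subgroup.center (X ⧸ lcsTop X 4) := fun hu => by
    rw [hπ]; exact central_image 3 hu
  have hone : ∀ {u : X}, u ∈ lcsTop X 4 → π u = 1 := fun hu => by
    rw [hπ]; exact (QuotientGroup.eq_one_iff _).2 hu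
  have hmem : ∀ {u : X}, π u = 1 → u ∈ lcsTop X 4 := fun hu => by
    rw [hπ] at hu; exact (QuotientGroup.eq_one_iff _).1 hu
  obtain ⟨c, hcdef⟩ : ∃ c, c = ⁅e, f⁆ := ⟨_, rfl⟩
  obtain ⟨d1, hd1⟩ : ∃ d, d = ⁅e, c⁆ := ⟨_, rfl⟩
  obtain ⟨d2, hd2⟩ : ∃ d, d = ⁅f, c⁆ := ⟨_, rfl⟩
  rw [← hcdef] at hcp hd1p hd2p hdec hind
  rw [← hd1] at hd1p hdec hind
  rw [← hd2] at hd2p hdec hind
  have hc1 : c ∈ lcsTop X 1 := hcdef ▸ lcsTop_comm (k := 0) (Subgroup.mem_top e) f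
  have hd12 : d1 ∈ lcsTop X 2 := hd1 ▸ lcsTop_comm' hc1 e
  have hd22 : d2 ∈ lcsTop X 2 := hd2 ▸ lcsTop_comm' hc1 f
  have hbr : ∀ {u : X}, u ∈ lcsTop X 2 → ∀ x : X,
      ⁅π x, π u⁆ ∈ Subgroup.center (X ⧸ lcsTop X 4) := fun hu x => by
    rw [← map_commutatorElement]; exact hc (lcsTop_comm' hu x)
  have h21 : ∀ {u : X}, u ∈ lcsTop X 2 → ∀ {w : X}, w ∈ lcsTop X 1 → Commute (π u) (π w) := by
    intro u hu w hw
    refine commute_commutator (fun q => ?_) ?_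
    · obtain ⟨x, rfl⟩ := QuotientGroup.mk'_surjective _ q
      rw [← hπ, ← map_commutatorElement]; exact hc (lcsTop_comm hu x)
    · have hs : Function.Surjective π := hπ ▸ QuotientGroup.mk'_surjective _
      rw [show commutator (X ⧸ lcsTop X 4) = (commutator X).map π by
        rw [commutator_def, commutator_def, Subgroup.map_commutator,
          Subgroup.map_top_of_surjective π hs], ← lcsTop_one]
      exact ⟨w, hw, rfl⟩
  have hd1p4 : π d1 ^ p = 1 := by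
    have h : ∀ n : ℕ, ⁅π e, π c ^ n⁆ = π d1 ^ n := fun n => by
      rw [commutatorElement_def, ← conj_pow, show π e * π c * (π e)⁻¹ = π d1 * π c by
        rw [hd1, map_commutatorElement, commutatorElement_def]; group,
        (h21 hd12 hc1).mul_pow, mul_inv_cancel_right]
    rw [← h p, ← map_pow]
    exact br_eq_one (central_comm (hc hcp) _).symm
  have hd2p4 : π d2 ^ p = 1 := by
    have h : ∀ n : ℕ, ⁅π f, π c ^ n⁆ = π d2 ^ n := fun n => by
      rw [commutatorElement_def, ← conj_pow, show π f * π c * (π f)⁻¹ = π d2 * π c by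
        rw [hd2, map_commutatorElement, commutatorElement_def]; group,
        (h21 hd22 hc1).mul_pow, mul_inv_cancel_right]
    rw [← h p, ← map_pow]
    exact br_eq_one (central_comm (hc hcp) _).symm
  have h22 : ∀ {u w : X}, u ∈ lcsTop X 2 → w ∈ lcsTop X 2 → Commute (π u) (π w) := fun hu hw =>
    h21 hu (Subgroup.lowerCentralSeries_antitone (S := ⊤) (by norm_num : 1 ≤ 2) hw)
  have hpow3 : ∀ w ∈ lcsTop X 2, w ^ p ∈ lcsTop X 3 := by
    intro w hw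
    obtain ⟨a, b, u, hu, rfl⟩ := hdec w hw
    obtain ⟨κ, hκ⟩ : ∃ κ, κ = QuotientGroup.mk' (lcsTop X 3) := ⟨_, rfl⟩
    have hk : ∀ {v : X}, v ∈ lcsTop X 3 → κ v = 1 := fun hv => by
      rw [hκ]; exact (QuotientGroup.eq_one_iff _).2 hv
    have hcc : Commute (κ d1 ^ a) (κ d2 ^ b) := by
      rw [hκ]; exact central_comm (zpow_mem (central_image 2 hd12) a) _
    rw [← QuotientGroup.eq_one_iff, ← QuotientGroup.mk'_apply, ← hκ, map_pow, map_mul, map_mul,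
      hk hu, mul_one, map_zpow, map_zpow, hcc.mul_pow, ← zpow_natCast, ← zpow_natCast (κ d2 ^ b),
      ← zpow_mul, ← zpow_mul, mul_comm a, mul_comm b, zpow_mul, zpow_mul, zpow_natCast, zpow_natCast,
      ← map_pow, ← map_pow, hk hd1p, hk hd2p, one_zpow, one_zpow, one_mul]
  let W : Subgroup (X ⧸ lcsTop X 4) :=
    { carrier := {q | q ∈ Subgroup.center (X ⧸ lcsTop X 4) ∧ q ^ p = 1}
      one_mem' := ⟨one_mem _, one_pow p⟩
      mul_mem' := fun {a b} ha hb => ⟨mul_mem ha.1 hb.1, by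
        rw [(central_comm ha.1 b).mul_pow, ha.2, hb.2, one_mul]⟩
      inv_mem' := fun {a} ha => ⟨inv_mem ha.1, by rw [inv_pow, ha.2, inv_one]⟩ }
  have hW : ∀ {w : X}, w ∈ lcsTop X 3 → π w ^ p = 1 := by
    have hle : lcsTop X 3 ≤ W.comap π := by
      show ⁅lcsTop X 2, (⊤ : Subgroup X)⁆ ≤ _
      rw [Subgroup.commutator_le]
      intro w hw x _
      refine ⟨hc (lcsTop_comm hw x), ?_⟩
      rw [map_commutatorElement, ← PGroups.comm_pow_left_of_central (by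
        rw [← map_commutatorElement]; exact hc (lcsTop_comm hw x)) p, ← map_pow]
      exact br_eq_one (central_comm (hc (hpow3 w hw)) _)
    exact fun {w} hw => (hle hw).2
  have hpow4 : ∀ w ∈ lcsTop X 2, w ^ p ∈ lcsTop X 4 := by
    intro w hw
    obtain ⟨a, b, u, hu, rfl⟩ := hdec w hw
    refine hmem ?_
    rw [map_pow, map_mul, map_mul, ((central_comm (hc hu) _).symm).mul_pow, hW hu, mul_one,
      map_zpow, map_zpow, ((h22 hd12 hd22).zpow_zpow a b).mul_pow, ← zpow_natCast,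
      ← zpow_natCast (π d2 ^ b), ← zpow_mul, ← zpow_mul, mul_comm a, mul_comm b, zpow_mul, zpow_mul,
      zpow_natCast, zpow_natCast, hd1p4, hd2p4, one_zpow, one_zpow, one_mul]
  have h42 : lcsTop X 4 ≤ lcsTop X 2 := Subgroup.lowerCentralSeries_antitone (S := ⊤) (by norm_num)
  have h43 : lcsTop X 4 ≤ lcsTop X 3 := Subgroup.lowerCentralSeries_antitone (S := ⊤) (by norm_num)
  have hbound := hsec (lcsTop X 2) (lcsTop X 4) h42
    (fun a _ b hb => (inferInstance : (lcsTop X 4).Normal).conj_mem b hb a)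
    (fun a ha b hb => hmem (by rw [map_commutatorElement]; exact br_eq_one (h22 ha hb)))
    hpow4
  -- the order of `γ₄ / γ₅`
  have hL3 : Nat.card (lcsTop X 3) ≤ p * Nat.card (lcsTop X 4) := by
    obtain ⟨g, hg⟩ : ∃ g, g = (QuotientGroup.mk' (lcsTop X 3)).comp (lcsTop X 2).subtype := ⟨_, rfl⟩
    have hker : g.ker = (lcsTop X 3).subgroupOf (lcsTop X 2) := by
      ext w; rw [hg]; exact (QuotientGroup.eq_one_iff _).trans Subgroup.mem_subgroupOf.symm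
    have hr : p ^ 2 ≤ Nat.card g.range := by
      let ι : Fin p × Fin p → g.range := fun ij =>
        ⟨g (⟨d1, hd12⟩ ^ (ij.1 : ℤ) * ⟨d2, hd22⟩ ^ (ij.2 : ℤ)), ⟨_, rfl⟩⟩
      have hι : Function.Injective ι := by
        rintro ⟨i, j⟩ ⟨i', j'⟩ h
        have h' := congrArg Subtype.val h
        simp only [ι, hg, MonoidHom.comp_apply, Subgroup.coe_subtype, Subgroup.coe_mul,
          SubgroupClass.coe_zpow, QuotientGroup.mk'_apply, QuotientGroup.mk_mul,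
          QuotientGroup.mk_zpow] at h'
        have hc2 : Commute (d1 : X ⧸ lcsTop X 3) (d2 : X ⧸ lcsTop X 3) :=
          central_comm (central_image 2 hd12) _
        have h3 : (d1 : X ⧸ lcsTop X 3) ^ ((i : ℤ) - i') * (d2 : X ⧸ lcsTop X 3) ^ ((j : ℤ) - j') = 1 := by
          rw [zpow_sub, zpow_sub, show (d1 : X ⧸ lcsTop X 3) ^ (i : ℤ) * ((d1 : X ⧸ lcsTop X 3) ^ (i' : ℤ))⁻¹ *
              ((d2 : X ⧸ lcsTop X 3) ^ (j : ℤ) * ((d2 : X ⧸ lcsTop X 3) ^ (j' : ℤ))⁻¹) =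
            (d1 : X ⧸ lcsTop X 3) ^ (i : ℤ) * (((d1 : X ⧸ lcsTop X 3) ^ (i' : ℤ))⁻¹ *
              (d2 : X ⧸ lcsTop X 3) ^ (j : ℤ)) * ((d2 : X ⧸ lcsTop X 3) ^ (j' : ℤ))⁻¹ by group,
            ((hc2.zpow_zpow (i' : ℤ) (j : ℤ)).inv_left).eq, ← mul_assoc, h', mul_assoc (_ * _),
            ← mul_inv_rev, ← (hc2.zpow_zpow (i' : ℤ) (j' : ℤ)).eq]
          group
        rw [← QuotientGroup.mk_zpow, ← QuotientGroup.mk_zpow, ← QuotientGroup.mk_mul,
          QuotientGroup.eq_one_iff] at h3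
        obtain ⟨hi, hj⟩ := hind h2 _ _ h3
        have key : ∀ a b : Fin p, (p : ℤ) ∣ (a : ℤ) - b → a = b := fun a b h =>
          Fin.ext (by
            obtain ⟨k, hk⟩ := h
            have ha := a.2; have hb := b.2
            have hk0 : k = 0 := by
              rcases lt_trichotomy k 0 with hk1 | hk1 | hk1
              · nlinarith
              · exact hk1
              · nlinarith
            rw [hk0, mul_zero] at hk
            omega)
        exact Prod.ext (key _ _ hi) (key _ _ hj)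
      have := Nat.card_le_card_of_injective ι hι
      rwa [Nat.card_prod, Nat.card_fin, ← pow_two] at this
    have hmul : Nat.card (lcsTop X 2) = Nat.card g.range * Nat.card (lcsTop X 3) := by
      rw [g.ker.card_eq_card_quotient_mul_card_subgroup,
        Nat.card_congr (QuotientGroup.quotientKerEquivRange g).toEquiv, hker,
        Nat.card_congr (Subgroup.subgroupOfEquivOfLe
          (Subgroup.lowerCentralSeries_antitone (S := ⊤) (by norm_num : 2 ≤ 3))).toEquiv]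
    have h : p ^ 2 * Nat.card (lcsTop X 3) ≤ p ^ 2 * (p * Nat.card (lcsTop X 4)) := by
      calc p ^ 2 * Nat.card (lcsTop X 3) ≤ Nat.card g.range * Nat.card (lcsTop X 3) :=
            Nat.mul_le_mul_right _ hr
        _ = Nat.card (lcsTop X 2) := hmul.symm
        _ ≤ p ^ 3 * Nat.card (lcsTop X 4) := hbound
        _ = p ^ 2 * (p * Nat.card (lcsTop X 4)) := by ring
    exact Nat.le_of_mul_le_mul_left h (pow_pos hp'.pos 2)
  by_contra hne
  have heqc : Nat.card (lcsTop X 3) = p * Nat.card (lcsTop X 4) := by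
    obtain ⟨i, hi⟩ := (hX.to_subgroup (lcsTop X 3)).exists_card_eq
    obtain ⟨k, hk⟩ := (hX.to_subgroup (lcsTop X 4)).exists_card_eq
    have hlt : Nat.card (lcsTop X 4) < Nat.card (lcsTop X 3) :=
      lt_of_le_of_ne (Subgroup.card_le_of_le h43) fun h =>
        hne (Subgroup.eq_of_le_of_card_ge h43 h.ge).ge
    rw [hi, hk] at hlt hL3 ⊢
    rw [← pow_succ'] at hL3 ⊢
    have h1 := (Nat.pow_lt_pow_iff_right hp'.one_lt).1 hlt
    have h2 := (Nat.pow_le_pow_iff_right hp'.one_lt).1 hL3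
    rw [show i = k + 1 by omega]
  have hfixρ : ∀ (ρ : MulAut X), (∃ k : ℕ, ρ ^ p ^ k = 1) → ∀ w ∈ lcsTop X 3, π (ρ w) = π w := by
    rintro ρ ⟨k, hk⟩ w hw
    rw [hπ]
    exact (QuotientGroup.eq.2 (fix_section h43 heqc (fun _ h => lcsTop_map ρ h)
      (fun _ h => lcsTop_map ρ h) hk hw)).symm
  obtain ⟨hσ2, hτ2⟩ := hP.fix_gamma_two hX hΦ
  obtain ⟨κ, hκ⟩ : ∃ κ, κ = QuotientGroup.mk' (lcsTop X 3) := ⟨_, rfl⟩
  have hκc : ∀ {u : X}, u ∈ lcsTop X 2 → κ u ∈ Subgroup.center (X ⧸ lcsTop X 3) := fun hu => by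
    rw [hκ]; exact central_image 2 hu
  have hκbr : ∀ x : X, ⁅κ x, κ c⁆ ∈ Subgroup.center (X ⧸ lcsTop X 3) := fun x => by
    rw [← map_commutatorElement]; exact hκc (lcsTop_comm' hc1 x)
  have hΦ1 : ∀ {u : X}, u ∈ frattini X → u ∈ lcsTop X 1 := fun hu => by
    rw [lcsTop_one, ← hΦ]; exact hu
  have hκφ : ∀ {φ : X}, φ ∈ lcsTop X 1 → ⁅κ φ, κ c⁆ = 1 := by
    intro φ hφ
    obtain ⟨m, u, hu, rfl⟩ := hP.gamma_two hX hΦ hφ
    rw [← hcdef, map_mul, map_zpow]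
    exact br_eq_one (((Commute.refl (κ c)).zpow_left m).mul_left (central_comm (hκc hu) _))
  -- images of `d1`, `d2`
  have hmod : ∀ {u w : X}, κ u = κ w → ∃ z ∈ lcsTop X 3, u = w * z := fun {u w} h => by
    rw [hκ] at h
    exact ⟨_, QuotientGroup.eq.1 h.symm, (mul_inv_cancel_left w u).symm⟩
  have himg : ∀ (ρ : MulAut X), (∀ w ∈ lcsTop X 1, w⁻¹ * ρ w ∈ lcsTop X 2) → ∀ (x y : X) (φ : X),
      φ ∈ lcsTop X 1 → ρ x = y * φ → κ (ρ ⁅x, c⁆) = ⁅κ y, κ c⁆ := by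
    intro ρ hρ x y φ hφ hxy
    rw [map_commutatorElement ρ, map_commutatorElement κ, hxy, map_mul,
      show ρ c = c * (c⁻¹ * ρ c) by rw [mul_inv_cancel_left], map_mul,
      br_mul_right (by rw [br_eq_one (central_comm (hκc (hρ c hc1)) _).symm]; exact one_mem _),
      br_eq_one (central_comm (hκc (hρ c hc1)) _).symm, mul_one,
      br_mul_left (by rw [hκφ hφ]; exact one_mem _), hκφ hφ, one_mul]
  have hA : ∀ {x : X} {u w : X}, u ∈ lcsTop X 2 → w ∈ lcsTop X 2 →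
      ⁅π x, π (u * w)⁆ = ⁅π x, π u⁆ * ⁅π x, π w⁆ := fun hu hw => by
    rw [map_mul, br_mul_right (hbr hw _)]
  have hB : ∀ {x y : X} {u : X}, u ∈ lcsTop X 2 →
      ⁅π (x * y), π u⁆ = ⁅π y, π u⁆ * ⁅π x, π u⁆ := fun hu => by
    rw [map_mul, br_mul_left (hbr hu _)]
  have hB1 : ∀ {φ u : X}, φ ∈ lcsTop X 1 → u ∈ lcsTop X 2 → ⁅π φ, π u⁆ = 1 := fun hφ hu =>
    br_eq_one (h21 hu hφ).symm
  have hZ : ∀ {x u : X}, u ∈ lcsTop X 3 → ⁅π x, π u⁆ = 1 := fun hu =>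
    br_eq_one (central_comm (hc hu) _).symm
  have h32 : lcsTop X 3 ≤ lcsTop X 2 := Subgroup.lowerCentralSeries_antitone (S := ⊤) (by norm_num)
  obtain ⟨φ₁, hφ₁, hσe⟩ : ∃ φ ∈ lcsTop X 1, σ e = f * e * φ :=
    ⟨_, hΦ1 hP.σe, (mul_inv_cancel_left _ _).symm⟩
  obtain ⟨φ₂, hφ₂, hσf⟩ : ∃ φ ∈ lcsTop X 1, σ f = f * φ :=
    ⟨_, hΦ1 hP.σf, (mul_inv_cancel_left _ _).symm⟩
  obtain ⟨φ₃, hφ₃, hτe⟩ : ∃ φ ∈ lcsTop X 1, τ e = e * φ :=
    ⟨_, hΦ1 hP.τe, (mul_inv_cancel_left _ _).symm⟩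
  obtain ⟨j, hj, hτf'⟩ := hP.τf
  obtain ⟨φ₄, hφ₄, hτf⟩ : ∃ φ ∈ lcsTop X 1, τ f = f * e ^ j * φ :=
    ⟨_, hΦ1 hτf', (mul_inv_cancel_left _ _).symm⟩
  obtain ⟨z₁, hz₁, hσd1⟩ : ∃ z ∈ lcsTop X 3, σ d1 = d1 * d2 * z := hmod (by
    rw [hd1, himg σ hσ2 e _ φ₁ hφ₁ hσe, map_mul, br_mul_left (hκbr e), map_mul,
      map_commutatorElement, hd2, map_commutatorElement])
  obtain ⟨z₂, hz₂, hσd2⟩ : ∃ z ∈ lcsTop X 3, σ d2 = d2 * z := hmod (by
    rw [hd2, himg σ hσ2 f _ φ₂ hφ₂ hσf, map_commutatorElement])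
  obtain ⟨z₃, hz₃, hτd2⟩ : ∃ z ∈ lcsTop X 3, τ d2 = d1 ^ j * d2 * z := hmod (by
    rw [hd2, himg τ hτ2 f _ φ₄ hφ₄ hτf, map_mul, br_mul_left (hκbr _), map_zpow,
      br_zpow_left (hκbr e), map_mul, map_zpow, hd1, map_commutatorElement, map_commutatorElement])
  have hσφ : ∀ {φ u : X}, φ ∈ lcsTop X 1 → u ∈ lcsTop X 2 → ∀ x : X,
      ⁅π (x * φ), π u⁆ = ⁅π x, π u⁆ := fun hφ hu x => by rw [hB hu, hB1 hφ hu, one_mul]
  have hre : ∀ (ρ : MulAut X), (∃ k : ℕ, ρ ^ p ^ k = 1) → ∀ {x u : X}, u ∈ lcsTop X 2 →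
      ⁅π (ρ x), π (ρ u)⁆ = ⁅π x, π u⁆ := fun ρ hρ x u hu => by
    rw [← map_commutatorElement, ← map_commutatorElement, ← map_commutatorElement,
      hfixρ ρ hρ _ (lcsTop_comm' hu x)]
  -- `[f, d2] = 1`
  have h22' : ⁅π f, π d2⁆ = 1 := by
    have h := hre σ hP.σp (x := e) hd22
    rw [hσe, hσd2, hA hd22 (h32 hz₂), hZ hz₂, mul_one, hσφ hφ₁ hd22, hB hd22, mul_eq_left] at h
    exact h
  have h11 : ⁅π e, π d1⁆ = 1 := by
    have h := hre τ hP.τp (x := e) hd22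
    rw [hτe, hτd2, hA (mul_mem (zpow_mem hd12 j) hd22) (h32 hz₃), hZ hz₃, mul_one,
      hσφ hφ₃ (mul_mem (zpow_mem hd12 j) hd22), hA (zpow_mem hd12 j) hd22, mul_eq_right, map_zpow,
      br_zpow_right (hbr hd12 _)] at h
    refine Subgroup.mem_bot.1 (eq_one_of_zpow (p := p) (K := (⊥ : Subgroup (X ⧸ lcsTop X 4))) ?_ hj
      (Subgroup.mem_bot.2 h))
    rw [Subgroup.mem_bot, ← map_commutatorElement]
    exact hW (lcsTop_comm' hd12 e)
  have hmix : ⁅π f, π d1⁆ * ⁅π e, π d2⁆ = 1 := by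
    have h := hre σ hP.σp (x := e) hd12
    rw [hσe, hσd1, hA (mul_mem hd12 hd22) (h32 hz₁), hZ hz₁, mul_one, hσφ hφ₁ (mul_mem hd12 hd22),
      hA hd12 hd22, hB hd12, hB hd22, h11, h22', one_mul, mul_one] at h
    exact h
  have hjac : ⁅π e, π d2⁆ = ⁅π f, π d1⁆ := by
    obtain ⟨E, hE⟩ : ∃ E, E = π e := ⟨_, rfl⟩
    obtain ⟨G, hG⟩ : ∃ G, G = π f := ⟨_, rfl⟩
    obtain ⟨C, hC⟩ : ∃ C, C = π c := ⟨_, rfl⟩
    obtain ⟨D1, hD1⟩ : ∃ D, D = π d1 := ⟨_, rfl⟩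
    obtain ⟨D2, hD2⟩ : ∃ D, D = π d2 := ⟨_, rfl⟩
    have e1 : D2 = ⁅G, C⁆ := by rw [hD2, hd2, map_commutatorElement, hG, hC]
    have e2 : E * G * E⁻¹ = C * G := by
      rw [hC, hcdef, map_commutatorElement, ← hE, ← hG, commutatorElement_def]; group
    have e3 : E * C * E⁻¹ = D1 * C := by
      rw [hD1, hd1, map_commutatorElement, ← hE, ← hC, commutatorElement_def]; group
    have cD1 : Commute D1 C := hD1 ▸ hC ▸ h21 hd12 hc1
    have cD2 : Commute D2 C := hD2 ▸ hC ▸ h21 hd22 hc1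
    have cD12 : Commute D1 D2 := hD1 ▸ hD2 ▸ h22 hd12 hd22
    have cz : ⁅G, D1⁆ ∈ Subgroup.center (X ⧸ lcsTop X 4) := hG ▸ hD1 ▸ hbr hd12 f
    rw [← hE, ← hG, ← hD1, ← hD2]
    have h4 : E * D2 * E⁻¹ = ⁅G, D1⁆ * D2 := by
      rw [e1, show E * ⁅G, C⁆ * E⁻¹ = ⁅E * G * E⁻¹, E * C * E⁻¹⁆ by
        simp only [commutatorElement_def]; group, e2, e3,
        show ⁅C * G, D1 * C⁆ = C * (⁅G, D1⁆ * (D1 * ⁅G, C⁆ * D1⁻¹)) * C⁻¹ * ⁅C, D1 * C⁆ by
          simp only [commutatorElement_def]; group,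
        br_eq_one (cD1.symm.mul_right (Commute.refl C)), mul_one, ← e1, cD12.eq, mul_inv_cancel_right,
        (((central_comm cz C).mul_left cD2).symm).eq, mul_inv_cancel_right]
    rw [commutatorElement_def, h4, mul_inv_cancel_right]
  have h12 : ⁅π e, π d2⁆ = 1 := by
    rw [← hjac, ← pow_two] at hmix
    have hpp : ⁅π e, π d2⁆ ^ p = 1 := by
      rw [← map_commutatorElement]; exact hW (lcsTop_comm' hd22 e)
    obtain ⟨k, hk⟩ := hp'.odd_of_ne_two hp2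
    rwa [hk, pow_succ, pow_mul, hmix, one_pow, one_mul] at hpp
  have h21' : ⁅π f, π d1⁆ = 1 := hjac ▸ h12
  -- `γ₃` is central modulo `γ₅`
  have hcen : ∀ {u : X}, u ∈ lcsTop X 2 → ⁅π e, π u⁆ = 1 → ⁅π f, π u⁆ = 1 →
      π u ∈ Subgroup.center (X ⧸ lcsTop X 4) := by
    intro u hu he hf
    refine Subgroup.mem_center_iff.2 fun q => ?_
    obtain ⟨x, rfl⟩ := QuotientGroup.mk'_surjective _ q
    obtain ⟨a, b, φ, hφ, rfl⟩ := hP.gen' hΦ x
    rw [← hπ, map_mul, map_mul, map_zpow, map_zpow]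
    exact ((((show Commute (π e) (π u) from commutatorElement_eq_one_iff_mul_comm.1 he).zpow_left a).mul_left
      ((show Commute (π f) (π u) from commutatorElement_eq_one_iff_mul_comm.1 hf).zpow_left b)).mul_left
      (h21 hu hφ).symm).eq
  refine hne ?_
  show ⁅lcsTop X 2, (⊤ : Subgroup X)⁆ ≤ lcsTop X 4
  rw [Subgroup.commutator_le]
  intro w hw x _
  obtain ⟨a, b, u, hu, rfl⟩ := hdec w hw
  refine hmem ?_
  rw [map_commutatorElement, map_mul, map_mul, map_zpow, map_zpow]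
  exact br_eq_one (central_comm (mul_mem (mul_mem (zpow_mem (hcen hd12 h11 h21') a)
    (zpow_mem (hcen hd22 h12 h22') b)) (hc hu)) _)

end CfsgLib.Fusion.Pearl
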