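import Cfsg.Agent.Lib.PGroups.ClassTwo
import Cfsg.Agent.Lib.PGroups.Basic

/-!
# Commutator rules around central commutators
-/

set_option autoImplicit false

namespace CfsgLib.Fusion.Pearl

open scoped commutatorElement

variable {Q : Type*} [Group Q]

theorem central_comm {a : Q} (h : a ∈ Subgroup.center Q) (b : Q) : Commute a b :=
  (Subgroup.mem_center_iff.1 h b).symm

theorem br_mul_right {a x y : Q} (h : ⁅a, y⁆ ∈ Subgroup.center Q) :
    ⁅a, x * y⁆ = ⁅a, x⁆ * ⁅a, y⁆ := by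
  have e : ⁅a, x * y⁆ = ⁅a, x⁆ * (x * ⁅a, y⁆ * x⁻¹) := by simp only [commutatorElement_def]; group
  rw [e, ← (central_comm h x).eq, mul_inv_cancel_right]

theorem br_mul_left {a x y : Q} (h : ⁅y, a⁆ ∈ Subgroup.center Q) :
    ⁅x * y, a⁆ = ⁅y, a⁆ * ⁅x, a⁆ := by
  have e : ⁅x * y, a⁆ = x * ⁅y, a⁆ * x⁻¹ * ⁅x, a⁆ := by simp only [commutatorElement_def]; group
  rw [e, ← (central_comm h x).eq, mul_inv_cancel_right]

theorem br_eq_one {a b : Q} (h : Commute a b) : ⁅a, b⁆ = 1 :=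
  commutatorElement_eq_one_iff_mul_comm.2 h.eq

theorem br_zpow_right {a x : Q} (h : ⁅a, x⁆ ∈ Subgroup.center Q) (n : ℤ) :
    ⁅a, x ^ n⁆ = ⁅a, x⁆ ^ n := by
  have hv : a * x * a⁻¹ = ⁅a, x⁆ * x := by rw [commutatorElement_def]; group
  rw [commutatorElement_def, ← conj_zpow, hv, (central_comm h x).mul_zpow, mul_inv_cancel_right]

theorem br_zpow_left {a x : Q} (h : ⁅x, a⁆ ∈ Subgroup.center Q) (n : ℤ) :
    ⁅x ^ n, a⁆ = ⁅x, a⁆ ^ n := by
  have h' : ⁅a, x⁆ ∈ Subgroup.center Q := by rw [← commutatorElement_inv]; exact inv_mem h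
  rw [← commutatorElement_inv, br_zpow_right h', ← commutatorElement_inv x a, inv_zpow, inv_inv]

theorem br_central_mul {u v z w : Q} (hz : z ∈ Subgroup.center Q) (hw : w ∈ Subgroup.center Q) :
    ⁅u * z, v * w⁆ = ⁅u, v⁆ := by
  have h1 : ⁅z, v * w⁆ = 1 := br_eq_one (central_comm hz _)
  have h2 : ⁅u, w⁆ = 1 := br_eq_one (central_comm hw _).symm
  rw [br_mul_left (by rw [h1]; exact one_mem _), h1, one_mul,
    br_mul_right (by rw [h2]; exact one_mem _), h2, mul_one]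

/-- An element whose commutators are central commutes with the commutator subgroup. -/
theorem commute_commutator {d : Q} (h : ∀ x : Q, ⁅d, x⁆ ∈ Subgroup.center Q) {w : Q}
    (hw : w ∈ commutator Q) : Commute d w := by
  let φ : Q →* Subgroup.center Q :=
    { toFun := fun x => ⟨⁅d, x⁆, h x⟩
      map_one' := Subtype.ext (by simp)
      map_mul' := fun x y => Subtype.ext (br_mul_right (h y)) }
  have hle : commutator Q ≤ φ.ker := by
    rw [commutator_def, Subgroup.commutator_le]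
    exact fun a _ b _ => by
      rw [MonoidHom.mem_ker, map_commutatorElement, commutatorElement_eq_one_iff_mul_comm]
      exact Subtype.ext (central_comm (φ a).2 _).eq
  exact commutatorElement_eq_one_iff_mul_comm.1 (congrArg Subtype.val (MonoidHom.mem_ker.1 (hle hw)))

/-- `[e^n, f]` when `[e, [e, f]]` is central. -/
theorem br_pow_choose {e f : Q} (h : ⁅e, ⁅e, f⁆⁆ ∈ Subgroup.center Q) (n : ℕ) :
    ⁅e ^ n, f⁆ = ⁅e, f⁆ ^ n * ⁅e, ⁅e, f⁆⁆ ^ n.choose 2 := by
  obtain ⟨c, hc⟩ : ∃ c, c = ⁅e, f⁆ := ⟨_, rfl⟩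
  obtain ⟨d, hd⟩ : ∃ d, d = ⁅e, c⁆ := ⟨_, rfl⟩
  rw [← hc, ← hd] at h ⊢
  induction n with
  | zero => simp
  | succ n ih =>
    have e1 : ⁅e ^ (n + 1), f⁆ = e * ⁅e ^ n, f⁆ * e⁻¹ * c := by
      rw [hc, pow_succ']; simp only [commutatorElement_def]; group
    have e2 : e * c * e⁻¹ = d * c := by rw [hd, commutatorElement_def]; group
    have hdc : ∀ i j : ℕ, Commute (d ^ i) (c ^ j) := fun i j => (central_comm h c).pow_pow i j
    rw [e1, ih, ← conj_mul, ← conj_pow, ← conj_pow, e2,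
      show e * d * e⁻¹ = d by rw [← (central_comm h e).eq, mul_inv_cancel_right],
      (central_comm h c).mul_pow, Nat.choose_succ_succ, Nat.choose_one_right, pow_add,
      mul_assoc (d ^ n * c ^ n), (show Commute (d ^ n.choose 2) c by simpa using hdc (n.choose 2) 1).eq,
      ← mul_assoc (d ^ n * c ^ n), mul_assoc (d ^ n) (c ^ n) c, ← pow_succ,
      (hdc n (n + 1)).eq, mul_assoc, ← pow_add, ← pow_add]

/-- A subgroup contained in its commutator with a nilpotent group is trivial. -/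
theorem eq_bot_of_le_commutator [Group.IsNilpotent Q] {K : Subgroup Q}
    (h : K ≤ ⁅K, (⊤ : Subgroup Q)⁆) : K = ⊥ := by
  obtain ⟨n, hn⟩ := Subgroup.nilpotent_iff_lowerCentralSeries.1 (inferInstance : Group.IsNilpotent Q)
  have : ∀ m, K ≤ (⊤ : Subgroup Q).lowerCentralSeries m := by
    intro m
    induction m with
    | zero => exact le_top
    | succ m ih => exact h.trans (Subgroup.commutator_mono ih le_rfl)
  exact le_bot_iff.1 (hn ▸ this n)

theorem eq_one_of_zpow {p : ℕ} [hp : Fact p.Prime] {K : Subgroup Q} {x : Q} (hxp : x ^ p ∈ K)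
    {a : ℤ} (ha : ¬ (p : ℤ) ∣ a) (hxa : x ^ a ∈ K) : x ∈ K := by
  obtain ⟨u, v, huv⟩ :=
    ((Nat.prime_iff_prime_int.1 hp.out).coprime_iff_not_dvd.2 ha : IsCoprime (p : ℤ) a)
  rw [show x = x ^ (u * (p : ℤ) + v * a) by rw [huv, zpow_one], zpow_add, mul_comm u, zpow_mul,
    zpow_natCast, mul_comm v, zpow_mul]
  exact mul_mem (zpow_mem hxp u) (zpow_mem hxa v)

end CfsgLib.Fusion.Pearl
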