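import Cfsg.Agent.Lib.Fusion.Pearl.ClassThree
import Cfsg.Agent.Lib.Fusion.NormalEssential.Basic

/-!
# A conjugate in the normalizer forces `γ₃ = 1`

`P` and `R` are isomorphic of index `p` in `N` and distinct. An element `e^μ g` of `R` outside `P`
either makes `[R, R]` too small or has a commutator `[x, x, x, f] ≠ 1`.
-/

set_option autoImplicit false

namespace CfsgLib.Fusion.Pearl

open Cfsg CfsgLib CfsgLib.Fusion CfsgLib.Fusion.RankThree CfsgLib.Fusion.NormalEssential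
open scoped commutatorElement

variable {p : ℕ} [hp : Fact p.Prime]

section Core

variable {X : Type*} [Group X] {σ τ : MulAut X} {e f : X} [Finite X]
  (hX : IsPGroup p X) (hP : Pair p σ τ e f) (hΦ : frattini X = commutator X)

include hX hP hΦ in
/-- The iterated commutator of `f` with `e^μ g`. -/
theorem Pair.moved (hp2 : p ≠ 2) (h4 : lcsTop X 3 = ⊥) (h3 : lcsTop X 2 ≠ ⊥)
    (hσf : f⁻¹ * σ f ∈ lcsTop X 2) {μ : ℤ} (hμ : ¬ (p : ℤ) ∣ μ) {u w : X}
    (hu : u = MulAut.conj (e ^ μ) (σ f) * f⁻¹) (hw : w = MulAut.conj (e ^ μ) (σ u) * u⁻¹) :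
    MulAut.conj (e ^ μ) (σ w) * w⁻¹ ≠ 1 := by
  obtain ⟨-, hdec, hind⟩ := hP.gamma_three hX hΦ hp2
  have hcen : ∀ {x : X}, x ∈ lcsTop X 2 → x ∈ Subgroup.center X := fun {x} hx => by
    refine Subgroup.mem_center_iff.2 fun y => commutatorElement_eq_one_iff_mul_comm.1 ?_
    exact Subgroup.mem_bot.1 (h4 ▸ lcsTop_comm' hx y)
  obtain ⟨c, hcdef⟩ : ∃ c, c = ⁅e, f⁆ := ⟨_, rfl⟩
  obtain ⟨d1, hd1⟩ : ∃ d, d = ⁅e, c⁆ := ⟨_, rfl⟩
  obtain ⟨d2, hd2⟩ : ∃ d, d = ⁅f, c⁆ := ⟨_, rfl⟩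
  rw [← hcdef, ← hd1, ← hd2] at hdec hind
  have hc1 : c ∈ lcsTop X 1 := hcdef ▸ lcsTop_comm (k := 0) (Subgroup.mem_top e) f
  have hd1c : d1 ∈ Subgroup.center X := hcen (hd1 ▸ lcsTop_comm' hc1 e)
  have hd2c : d2 ∈ Subgroup.center X := hcen (hd2 ▸ lcsTop_comm' hc1 f)
  have hΦ1 : ∀ {x : X}, x ∈ frattini X → x ∈ lcsTop X 1 := fun hx => by
    rw [lcsTop_one, ← hΦ]; exact hx
  obtain ⟨φ, hφ, hσe⟩ : ∃ φ ∈ lcsTop X 1, σ e = f * e * φ :=
    ⟨_, hΦ1 hP.σe, (mul_inv_cancel_left _ _).symm⟩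
  obtain ⟨ψ, hψ, hσf'⟩ : ∃ ψ ∈ lcsTop X 2, σ f = f * ψ := ⟨_, hσf, (mul_inv_cancel_left _ _).symm⟩
  obtain ⟨m, φ', hφ', hφe⟩ := hP.gamma_two hX hΦ hφ
  rw [← hcdef] at hφe
  have hφc : ⁅φ, c⁆ = 1 := by
    rw [hφe]
    exact br_eq_one (((Commute.refl c).zpow_left m).mul_left (central_comm (hcen hφ') _))
  obtain ⟨δ, hδ, hσc⟩ : ∃ δ ∈ lcsTop X 2, σ c = c * δ :=
    ⟨_, (hP.fix_gamma_two hX hΦ).1 c hc1, (mul_inv_cancel_left _ _).symm⟩
  have hσd2 : σ d2 = d2 := by
    rw [hd2, map_commutatorElement, hσf', hσc, br_central_mul (hcen hψ) (hcen hδ)]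
  have hσd1 : σ d1 = d1 * d2 := by
    have hec : ⁅e, c⁆ ∈ Subgroup.center X := hd1 ▸ hd1c
    rw [hd1, map_commutatorElement, hσe, hσc,
      br_mul_right (by rw [br_eq_one (central_comm (hcen hδ) _).symm]; exact one_mem _),
      br_eq_one (central_comm (hcen hδ) _).symm, mul_one, br_mul_left (by rw [hφc]; exact one_mem _),
      hφc, one_mul, br_mul_left hec, hd2]
  haveI hN : (Subgroup.zpowers d2).Normal := ⟨fun x hx y => by
    obtain ⟨i, rfl⟩ := Subgroup.mem_zpowers_iff.1 hx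
    rw [← (central_comm (zpow_mem hd2c i) y).eq, mul_inv_cancel_right]
    exact zpow_mem (Subgroup.mem_zpowers _) i⟩
  obtain ⟨π, hπ⟩ : ∃ π, π = QuotientGroup.mk' (Subgroup.zpowers d2) := ⟨_, rfl⟩
  have hπ1 : π d2 = 1 := by
    rw [hπ]; exact (QuotientGroup.eq_one_iff _).2 (Subgroup.mem_zpowers _)
  have hπc : ∀ {x : X}, x ∈ Subgroup.center X → π x ∈ Subgroup.center (X ⧸ Subgroup.zpowers d2) :=
    fun {x} hx => Subgroup.mem_center_iff.2 fun q => by
      obtain ⟨y, rfl⟩ := QuotientGroup.mk'_surjective _ q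
      rw [hπ, ← map_mul, ← map_mul, Subgroup.mem_center_iff.1 hx y]
  have hFC : Commute (π f) (π c) := by
    refine commutatorElement_eq_one_iff_mul_comm.1 ?_
    rw [← map_commutatorElement, ← hd2, hπ1]
  have hπσ2 : ∀ {x : X}, x ∈ lcsTop X 2 → π (σ x) = π x := by
    intro x hx
    obtain ⟨a, b, v, hv, rfl⟩ := hdec x hx
    rw [h4, Subgroup.mem_bot] at hv
    subst hv
    rw [mul_one]
    simp only [map_mul, map_zpow, hσd1, hσd2, hπ1, mul_one]
  have hπσc : π (σ c) = π c := by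
    rw [hcdef, map_commutatorElement σ, hσe, hσf', map_commutatorElement π, map_mul π (f * e),
      map_mul π f ψ, br_mul_right (by
        rw [br_eq_one (central_comm (hπc (hcen hψ)) _).symm]; exact one_mem _),
      br_eq_one (central_comm (hπc (hcen hψ)) _).symm, mul_one]
    have hφF : ⁅π φ, π f⁆ = 1 := by
      rw [hφe, map_mul, map_zpow]
      exact br_eq_one ((hFC.symm.zpow_left m).mul_left (central_comm (hπc (hcen hφ')) _))
    rw [br_mul_left (by rw [hφF]; exact one_mem _), hφF, one_mul, map_mul,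
      show ⁅π f * π e, π f⁆ = π f * ⁅π e, π f⁆ * (π f)⁻¹ by simp only [commutatorElement_def]; group,
      ← map_commutatorElement, ← hcdef, hFC.eq, mul_inv_cancel_right]
  -- `u ≡ c^μ`
  have hu' : ∃ v ∈ lcsTop X 2, u = c ^ μ * v := by
    refine ⟨_, ?_, (mul_inv_cancel_left (c ^ μ) u).symm⟩
    obtain ⟨κ, hκ⟩ : ∃ κ, κ = QuotientGroup.mk' (lcsTop X 2) := ⟨_, rfl⟩
    have hκc : ∀ {x : X}, x ∈ lcsTop X 1 → κ x ∈ Subgroup.center (X ⧸ lcsTop X 2) := fun hx => by
      rw [hκ]; exact central_image 1 hx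
    have hκψ : κ ψ = 1 := by rw [hκ]; exact (QuotientGroup.eq_one_iff _).2 hψ
    rw [← QuotientGroup.eq_one_iff, ← QuotientGroup.mk'_apply, ← hκ]
    rw [hu, MulAut.conj_apply, hσf']
    simp only [map_mul, map_inv, map_zpow, hκψ, mul_one, inv_mul_eq_one]
    rw [← commutatorElement_def,
      br_zpow_left (by rw [← map_commutatorElement, ← hcdef]; exact hκc hc1), ← map_commutatorElement,
      ← hcdef]
  obtain ⟨v, hv, huv⟩ := hu'
  have hvc := hπc (hcen hv)
  have hD1 : ⁅π e, π c⁆ = π d1 := by rw [← map_commutatorElement, ← hd1]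
  have hw' : π w = π d1 ^ (μ * μ) := by
    have hσu : π (σ u) = π u := by
      rw [huv, map_mul σ, map_zpow, map_mul π, map_zpow, hπσc, hπσ2 hv, map_mul, map_zpow]
    rw [hw, MulAut.conj_apply, map_mul, map_mul, map_mul, hσu, map_inv, map_inv, map_zpow,
      ← commutatorElement_def, huv, map_mul,
      br_mul_right (by rw [br_eq_one (central_comm hvc _).symm]; exact one_mem _),
      br_eq_one (central_comm hvc _).symm, mul_one, map_zpow]
    have hce : ⁅π e, π c⁆ ∈ Subgroup.center (X ⧸ Subgroup.zpowers d2) := hD1 ▸ hπc hd1c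
    rw [br_zpow_right (by rw [br_zpow_left hce]; exact zpow_mem hce μ), br_zpow_left hce, hD1, ← zpow_mul]
  obtain ⟨B, hB⟩ : ∃ B : ℤ, w = d1 ^ (μ * μ) * d2 ^ B := by
    rw [← map_zpow, hπ] at hw'
    obtain ⟨B, hB⟩ := Subgroup.mem_zpowers_iff.1 (QuotientGroup.eq.1 hw'.symm)
    exact ⟨B, by rw [hB, mul_inv_cancel_left]⟩
  have hwc : σ w ∈ Subgroup.center X := by
    rw [hB, map_mul, map_zpow, map_zpow, hσd1, hσd2]
    exact mul_mem (zpow_mem (mul_mem hd1c hd2c) _) (zpow_mem hd2c _)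
  intro hz
  rw [MulAut.conj_apply, ← (central_comm hwc (e ^ μ)).eq, mul_inv_cancel_right, mul_inv_eq_one, hB,
    map_mul, map_zpow, map_zpow, hσd1, hσd2, (central_comm hd1c d2).mul_zpow, mul_assoc, mul_right_inj,
    mul_eq_right] at hz
  have h := (hind h3 0 (μ * μ) (by rw [zpow_zero, one_mul, hz]; exact one_mem _)).2
  exact (Nat.prime_iff_prime_int.1 hp.out).not_dvd_mul hμ hμ h

include hX hP hΦ in
/-- In class two the derived subgroup has order at most `p`. -/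
theorem Pair.card_commutator_le (hp2 : p ≠ 2) (h3 : lcsTop X 2 = ⊥) :
    Nat.card (commutator X) ≤ p := by
  have hc1 : ⁅e, f⁆ ∈ lcsTop X 1 := lcsTop_comm (k := 0) (Subgroup.mem_top e) f
  have hcp : ⁅e, f⁆ ^ p = 1 := by
    rw [← PGroups.comm_pow_left_of_central (Subgroup.mem_center_iff.2 fun y =>
      commutatorElement_eq_one_iff_mul_comm.1 (Subgroup.mem_bot.1 (h3 ▸ lcsTop_comm' hc1 y))) p]
    have := hP.pow_mem hX hΦ hp2 e
    rw [h3, Subgroup.mem_bot] at this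
    rw [this, commutatorElement_one_left]
  refine (Subgroup.card_le_of_le (K := Subgroup.zpowers ⁅e, f⁆) fun w hw => ?_).trans ?_
  · obtain ⟨m, u, hu, rfl⟩ := hP.gamma_two hX hΦ (lcsTop_one (X := X) ▸ hw)
    rw [h3, Subgroup.mem_bot] at hu
    rw [hu, mul_one]
    exact zpow_mem (Subgroup.mem_zpowers _) m
  · rw [Nat.card_zpowers]
    exact Nat.le_of_dvd hp.out.pos (orderOf_dvd_of_pow_eq_one hcp)

end Core

variable {Ω : Type*} [Group Ω] {N P R : Subgroup Ω}

/-- The conjugation action of `N` on a normal subgroup. -/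
def conjOn (hn : N ≤ Subgroup.normalizer (P : Set Ω)) : N →* MulAut P :=
  P.normalizerMonoidHom.comp (Subgroup.inclusion hn)

omit hp in
theorem conjOn_apply (hn : N ≤ Subgroup.normalizer (P : Set Ω)) (g : N) (x : P) :
    ((conjOn hn g x : P) : Ω) = (g : Ω) * x * (g : Ω)⁻¹ := rfl

omit hp in
theorem conjOn_incl (hn : N ≤ Subgroup.normalizer (P : Set Ω)) (hPN : P ≤ N) (x : P) :
    conjOn hn (Subgroup.inclusion hPN x) = MulAut.conj x :=
  MulEquiv.ext fun y => Subtype.ext rfl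

variable [Finite N]

/-- With an isomorphic distinct subgroup of index `p` in `N` the class is at most two. -/
theorem gamma_three_eq_bot (hN : IsPGroup p N) (hp2 : p ≠ 2) (hdP : Step p N P) (hdR : Step p N R)
    (hne : R ≠ P) (ε : P ≃* R) {g : N} (hg : (g : Ω) ∉ P) {τ : MulAut P} {e f : P}
    (hpair : Pair p (conjOn hdP.norm g) τ e f) (hΦ : frattini P = commutator P)
    (hsec : SecLE p P) : lcsTop P 2 = ⊥ := by
  classical
  have := finite_le hdP.le
  have hPp : IsPGroup p P := hN.to_le hdP.le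
  have h4 := hpair.gamma_four_eq_bot hPp hΦ hp2 hsec
  by_contra h3
  have hΦ1 : ∀ {x : P}, x ∈ frattini P → x ∈ lcsTop P 1 := fun hx => by
    rw [lcsTop_one, ← hΦ]; exact hx
  -- adjust `g`
  obtain ⟨m, u₀, hu₀, hfu⟩ := hpair.gamma_two hPp hΦ (hΦ1 hpair.σf)
  obtain ⟨g', hg'⟩ : ∃ g' : N, g' = Subgroup.inclusion hdP.le (e ^ (-m)) * g := ⟨_, rfl⟩
  have hconj : conjOn hdP.norm g' = MulAut.conj (e ^ (-m)) * conjOn hdP.norm g := by
    rw [hg', map_mul, conjOn_incl]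
  obtain ⟨σ, hσ⟩ : ∃ σ, σ = conjOn hdP.norm g' := ⟨_, rfl⟩
  have hcongr : ∀ x : P, ((conjOn hdP.norm g) x)⁻¹ * σ x ∈ frattini P := fun x => by
    obtain ⟨y, hy⟩ : ∃ y, y = conjOn hdP.norm g x := ⟨_, rfl⟩
    rw [hσ, hconj, MulAut.mul_apply, MulAut.conj_apply, ← hy,
      show y⁻¹ * (e ^ (-m) * y * (e ^ (-m))⁻¹) = ⁅y⁻¹, e ^ (-m)⁆ by
        simp only [commutatorElement_def]; group]
    exact PGroups.commutator_le_frattini' hPp
      (Subgroup.commutator_mem_commutator (Subgroup.mem_top _) (Subgroup.mem_top _))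
  have hσP : Pair p σ τ e f := by
    refine ⟨hpair.gen, hpair.notMem, ?_, ?_, hpair.τe, hpair.τf, ?_, hpair.τp⟩
    · have := mul_mem hpair.σe (hcongr e)
      rwa [mul_assoc, mul_inv_cancel_left] at this
    · have := mul_mem hpair.σf (hcongr f)
      rwa [mul_assoc, mul_inv_cancel_left] at this
    · obtain ⟨k, hk⟩ := hN g'
      exact ⟨k, by rw [hσ, ← map_pow, hk, map_one]⟩
  have hσf : f⁻¹ * σ f ∈ lcsTop P 2 := by
    obtain ⟨π, hπ⟩ : ∃ π, π = QuotientGroup.mk' (lcsTop P 2) := ⟨_, rfl⟩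
    have hcC : π ⁅e, f⁆ ∈ Subgroup.center (P ⧸ lcsTop P 2) := by
      rw [hπ]; exact central_image 1 (lcsTop_comm (k := 0) (Subgroup.mem_top e) f)
    have hu1 : π u₀ = 1 := by rw [hπ]; exact (QuotientGroup.eq_one_iff _).2 hu₀
    have hf1 : conjOn hdP.norm g f = f * (⁅e, f⁆ ^ m * u₀) := by rw [← hfu, mul_inv_cancel_left]
    rw [← QuotientGroup.eq_one_iff, ← QuotientGroup.mk'_apply, ← hπ, map_mul, map_inv, inv_mul_eq_one,
      hσ, hconj, MulAut.mul_apply, hf1, MulAut.conj_apply, map_mul, map_mul, map_mul, map_mul, hu1,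
      mul_one, map_inv, map_zpow, map_zpow]
    rw [show π e ^ (-m) * (π f * π ⁅e, f⁆ ^ m) * (π e ^ (-m))⁻¹ =
        π e ^ (-m) * π f * (π e ^ (-m))⁻¹ * (π e ^ (-m) * π ⁅e, f⁆ ^ m * (π e ^ (-m))⁻¹) by group,
      ← ((central_comm hcC (π e ^ (-m))).zpow_left m).eq, mul_inv_cancel_right,
      show π e ^ (-m) * π f * (π e ^ (-m))⁻¹ = ⁅π e ^ (-m), π f⁆ * π f by
        rw [commutatorElement_def]; group,
      br_zpow_left (by rw [← map_commutatorElement]; exact hcC), ← map_commutatorElement,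
      ((central_comm hcC (π f)).zpow_left (-m)).eq, mul_assoc, ← zpow_add, neg_add_cancel, zpow_zero,
      mul_one]
  have hg'P : (g' : Ω) ∉ P := by
    rw [hg']
    intro h
    refine hg ?_
    have := mul_mem (inv_mem (e ^ (-m)).2) h
    rwa [Subgroup.coe_mul, Subgroup.coe_inclusion, inv_mul_cancel_left] at this
  -- elements of `R`
  have hΦR : ∀ {x : P}, x ∈ frattini P → (x : Ω) ∈ R := fun {x} hx => by
    have hle : frattini P ≤ R.subgroupOf P := by
      rw [hΦ, commutator_def, Subgroup.commutator_le]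
      intro a _ b _
      exact hdR.comm_mem (hdP.le a.2) (hdP.le b.2)
    exact hle hx
  have hfR : (f : Ω) ∈ R := by
    obtain ⟨φ, hφ, hσe⟩ : ∃ φ ∈ frattini P, σ e = f * e * φ :=
      ⟨_, hσP.σe, (mul_inv_cancel_left _ _).symm⟩
    have h1 : ((σ e : P) : Ω) * (e : Ω)⁻¹ ∈ R := by
      rw [hσ, conjOn_apply]; exact hdR.comm_mem g'.2 (hdP.le e.2)
    rw [hσe, Subgroup.coe_mul, Subgroup.coe_mul] at h1
    have h2 := mul_mem h1 (inv_mem (conj_mem_E hdR.norm (hdP.le e.2) (hΦR hφ)))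
    rwa [show (f : Ω) * e * φ * (e : Ω)⁻¹ * ((e : Ω) * φ * (e : Ω)⁻¹)⁻¹ = f by group] at h2
  obtain ⟨x₀, hx₀R, hx₀P⟩ : ∃ x ∈ R, x ∉ P := by
    by_contra h
    push Not at h
    have := finite_le hdR.le
    exact hne (Subgroup.eq_of_le_of_card_ge h
      (Nat.eq_of_mul_eq_mul_left hp.out.pos (hdR.card.symm.trans hdP.card)).ge)
  obtain ⟨v, hv, i, hvi⟩ := hdP.gen (hdR.le hx₀R) hx₀P g'.2
  obtain ⟨μ, n, φ, hφ, hvμ⟩ := hσP.gen' hΦ (⟨v, hv⟩⁻¹ : P)
  rw [lcsTop_one, ← hΦ] at hφ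
  have hxR : ((e ^ μ : P) : Ω) * (g' : Ω) ∈ R := by
    have hin : (v⁻¹ : Ω) * (g' : Ω) ∈ R := by
      rw [hvi, inv_mul_cancel_left]; exact zpow_mem hx₀R i
    have hv' := congrArg Subtype.val hvμ
    rw [Subgroup.coe_inv, Subgroup.coe_mul, Subgroup.coe_mul] at hv'
    have hk : ((e ^ μ : P) : Ω) * ((f ^ n : P) * (φ : Ω)) * ((e ^ μ : P) : Ω)⁻¹ ∈ R :=
      conj_mem_E hdR.norm (hdP.le (e ^ μ).2) (mul_mem (by
        rw [SubgroupClass.coe_zpow]; exact zpow_mem hfR n) (hΦR hφ))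
    have := mul_mem (inv_mem hk) hin
    rw [show (v⁻¹ : Ω) = ((e ^ μ : P) : Ω) * (f ^ n : P) * φ from hv'] at this
    convert this using 1
    group
  obtain ⟨c, hcdef⟩ : ∃ c : P, c = ⁅e, f⁆ := ⟨_, rfl⟩
  by_cases hμ : (p : ℤ) ∣ μ
  · have heΦ : e ^ μ ∈ frattini P := by
      obtain ⟨k, rfl⟩ := hμ
      rw [zpow_mul, zpow_natCast]
      exact zpow_mem (PGroups.pow_mem_frattini hPp e) k
    have hgR : (g' : Ω) ∈ R := by
      have := mul_mem (inv_mem (hΦR heΦ)) hxR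
      rwa [inv_mul_cancel_left] at this
    -- the commutators of `R` lie in `γ₃(P)`
    obtain ⟨K, hK⟩ : ∃ K : Subgroup N, K = (lcsTop P 2).map (Subgroup.inclusion hdP.le) := ⟨_, rfl⟩
    haveI hKn : K.Normal := ⟨fun k hk h => by
      rw [hK] at hk ⊢
      obtain ⟨y, hy, rfl⟩ := hk
      exact ⟨conjOn hdP.norm h y, lcsTop_map _ hy, Subtype.ext rfl⟩⟩
    obtain ⟨π, hπ⟩ : ∃ π, π = QuotientGroup.mk' K := ⟨_, rfl⟩
    obtain ⟨j, hj⟩ : ∃ j, j = π.comp (Subgroup.inclusion hdP.le) := ⟨_, rfl⟩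
    have hj1 : ∀ {y : P}, y ∈ lcsTop P 2 → j y = 1 := fun {y} hy => by
      rw [hj, hπ]; exact (QuotientGroup.eq_one_iff _).2 (hK ▸ ⟨y, hy, rfl⟩)
    have hjc : ∀ {y : P}, y ∈ lcsTop P 1 → ∀ y' : P, Commute (j y) (j y') := fun {y} hy y' => by
      refine commutatorElement_eq_one_iff_mul_comm.1 ?_
      rw [← map_commutatorElement]; exact hj1 (lcsTop_comm hy y')
    have hjg : ∀ {y : P}, y⁻¹ * σ y ∈ lcsTop P 2 → Commute (π g') (j y) := fun {y} hy => by
      have h1 : j (σ y) = j y := (inv_mul_eq_one.1 (by rw [← map_inv, ← map_mul]; exact hj1 hy)).symm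
      have h2 : j (σ y) = π g' * j y * (π g')⁻¹ := by
        rw [hj, hσ, MonoidHom.comp_apply, MonoidHom.comp_apply, ← map_inv, ← map_mul, ← map_mul]
        exact congrArg π (Subtype.ext rfl)
      rw [h1] at h2
      exact (mul_inv_eq_iff_eq_mul.1 h2.symm)
    obtain ⟨hσ2, -⟩ := hσP.fix_gamma_two hPp hΦ
    have hdecR : ∀ r : N, (r : Ω) ∈ R →
        ∃ (b : ℤ) (y : P) (i : ℤ), y ∈ lcsTop P 1 ∧ π r = j (f ^ b) * j y * π g' ^ i := by
      intro r hr
      obtain ⟨v, hv, i, hvi⟩ := hdP.gen g'.2 hg'P r.2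
      have hvR : v ∈ R := by
        have := mul_mem hr (inv_mem (zpow_mem hgR i))
        rwa [hvi, mul_inv_cancel_right] at this
      obtain ⟨a, b, y, hy, hve⟩ := hσP.gen' hΦ ⟨v, hv⟩
      have hyR : (y : Ω) ∈ R := hΦR (by rw [hΦ, ← lcsTop_one]; exact hy)
      have ha : (p : ℤ) ∣ a := by
        by_contra ha
        have hea : ((e : P) : Ω) ^ a ∈ R := by
          have h := congrArg Subtype.val hve
          rw [Subgroup.coe_mul, Subgroup.coe_mul, SubgroupClass.coe_zpow, SubgroupClass.coe_zpow] at h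
          have := mul_mem (mul_mem hvR (inv_mem hyR)) (inv_mem (zpow_mem hfR b))
          rwa [show v = (e : Ω) ^ a * (f : Ω) ^ b * y from h, mul_inv_cancel_right,
            mul_inv_cancel_right] at this
        have he : e ∈ R.subgroupOf P := eq_one_of_zpow (p := p)
          (hΦR (PGroups.pow_mem_frattini hPp e)) ha (by
            show ((e ^ a : P) : Ω) ∈ R
            rw [SubgroupClass.coe_zpow]; exact hea)
        refine hne ?_
        have := finite_le hdR.le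
        refine (Subgroup.eq_of_le_of_card_ge (fun z hz => ?_)
          (Nat.eq_of_mul_eq_mul_left hp.out.pos (hdR.card.symm.trans hdP.card)).le).symm
        obtain ⟨a', b', y', hy', hze⟩ := hσP.gen' hΦ ⟨z, hz⟩
        rw [show z = ((e ^ a' * f ^ b' * y' : P) : Ω) from congrArg Subtype.val hze]
        exact (R.subgroupOf P).mul_mem ((R.subgroupOf P).mul_mem ((R.subgroupOf P).zpow_mem he a')
          ((R.subgroupOf P).zpow_mem (show f ∈ R.subgroupOf P from hfR) b'))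
          (hΦR (by rw [hΦ, ← lcsTop_one]; exact hy'))
      have heaΦ : e ^ a ∈ frattini P := by
        obtain ⟨k, rfl⟩ := ha
        rw [zpow_mul, zpow_natCast]
        exact zpow_mem (PGroups.pow_mem_frattini hPp e) k
      refine ⟨b, e ^ a * y, i, mul_mem (hΦ1 heaΦ) hy, ?_⟩
      rw [show r = Subgroup.inclusion hdP.le ⟨v, hv⟩ * g' ^ i from Subtype.ext (by simpa using hvi),
        map_mul, map_zpow, hve, show π (Subgroup.inclusion hdP.le (e ^ a * f ^ b * y)) =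
          j (e ^ a * f ^ b * y) by rw [hj]; rfl, map_mul, map_mul, map_mul j (e ^ a) y,
        (hjc (hΦ1 heaΦ) (f ^ b)).eq, mul_assoc (j (f ^ b))]
    have hRc : ∀ r s : R, π (Subgroup.inclusion hdR.le r) * π (Subgroup.inclusion hdR.le s) =
        π (Subgroup.inclusion hdR.le s) * π (Subgroup.inclusion hdR.le r) := by
      intro r s
      obtain ⟨b, y, i, hy, hr⟩ := hdecR _ (show ((Subgroup.inclusion hdR.le r : N) : Ω) ∈ R from r.2)
      obtain ⟨b', y', i', hy', hs⟩ := hdecR _ (show ((Subgroup.inclusion hdR.le s : N) : Ω) ∈ R from s.2)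
      have cgf : Commute (π g') (j f) := hjg hσf
      have cgy : ∀ {y : P}, y ∈ lcsTop P 1 → Commute (π g') (j y) := fun hy => hjg (hσ2 _ hy)
      rw [hr, hs, map_zpow, map_zpow]
      have c1 : Commute (j f ^ b * j y) (j f ^ b' * j y' * π g' ^ i') :=
        ((((Commute.refl (j f)).zpow_zpow b b').mul_right ((hjc hy' f).symm.zpow_left b)).mul_right
          (cgf.symm.zpow_zpow b i')).mul_left
        ((((hjc hy f).zpow_right b').mul_right (hjc hy y')).mul_right ((cgy hy).symm.zpow_right i'))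
      have c2 : Commute (π g' ^ i) (j f ^ b' * j y' * π g' ^ i') :=
        ((cgf.zpow_zpow i b').mul_right ((cgy hy').zpow_left i)).mul_right
          ((Commute.refl (π g')).zpow_zpow i i')
      exact (c1.mul_left c2).eq
    have hle : (commutator R).map (Subgroup.inclusion hdR.le) ≤ K := by
      rw [Subgroup.map_le_iff_le_comap, commutator_def, Subgroup.commutator_le]
      intro r _ s _
      rw [Subgroup.mem_comap, ← QuotientGroup.eq_one_iff, ← QuotientGroup.mk'_apply, ← hπ,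
        map_commutatorElement, map_commutatorElement, commutatorElement_eq_one_iff_mul_comm]
      exact hRc r s
    have h1 := Subgroup.card_le_of_le hle
    rw [Subgroup.card_map_of_injective (Subgroup.inclusion_injective hdR.le), hK,
      Subgroup.card_map_of_injective (Subgroup.inclusion_injective hdP.le)] at h1
    have hcomm : (commutator P).map ε.toMonoidHom = commutator R := by
      rw [commutator_def, commutator_def, Subgroup.map_commutator,
        Subgroup.map_top_of_surjective ε.toMonoidHom ε.surjective]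
    rw [← hcomm, Subgroup.card_map_of_injective (MulEquiv.injective ε)] at h1
    have h21 : lcsTop P 2 ≤ lcsTop P 1 := Subgroup.lowerCentralSeries_antitone (S := ⊤) (by norm_num)
    have h2 := Subgroup.eq_of_le_of_card_ge h21 (by rw [lcsTop_one]; exact h1)
    haveI := hPp.isNilpotent
    exact h3 (h2.trans (eq_bot_of_le_commutator (le_of_eq (show lcsTop P 1 =
      ⁅lcsTop P 1, (⊤ : Subgroup P)⁆ from h2.symm))))
  · obtain ⟨u, hu⟩ : ∃ u, u = MulAut.conj (e ^ μ) (σ f) * f⁻¹ := ⟨_, rfl⟩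
    obtain ⟨w, hw⟩ : ∃ w, w = MulAut.conj (e ^ μ) (σ u) * u⁻¹ := ⟨_, rfl⟩
    refine hσP.moved hPp hΦ hp2 h4 h3 hσf hμ hu hw ?_
    obtain ⟨x, hx⟩ : ∃ x : R, x = ⟨_, hxR⟩ := ⟨_, rfl⟩
    have hbr : ∀ (y : P) (y' : R), (y' : Ω) = y →
        ((⁅x, y'⁆ : R) : Ω) = ((MulAut.conj (e ^ μ) (σ y) * y⁻¹ : P) : Ω) := by
      intro y y' hy
      rw [MulAut.conj_apply, Subgroup.coe_mul, Subgroup.coe_mul, Subgroup.coe_mul, Subgroup.coe_inv,
        Subgroup.coe_inv, hσ, conjOn_apply, ← hy]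
      simp only [commutatorElement_def, Subgroup.coe_mul, Subgroup.coe_inv, hx]
      group
    have e1 := hbr f ⟨f, hfR⟩ rfl
    rw [← hu] at e1
    have e2 := hbr u _ e1
    rw [← hw] at e2
    have e3 := hbr w _ e2
    have hz : ⁅x, ⁅x, ⁅x, (⟨f, hfR⟩ : R)⁆⁆⁆ = 1 := by
      refine ε.symm.injective ?_
      rw [map_one, map_commutatorElement, map_commutatorElement, map_commutatorElement]
      exact Subgroup.mem_bot.1 (h4 ▸ lcsTop_comm' (lcsTop_comm'
        (lcsTop_comm' (k := 0) (Subgroup.mem_top _) _) _) _)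
    rw [hz, Subgroup.coe_one] at e3
    exact Subtype.ext e3.symm

end CfsgLib.Fusion.Pearl
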