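import Cfsg.Agent.Lib.Fusion.Pearl.Conjugate
import Cfsg.Agent.Lib.Fusion.NormalEssential.CenterShape
import Cfsg.Agent.Lib.Fusion.RankTwoRadical
import Cfsg.Agent.Lib.Fusion.RankThreeMain

/-!
# Two-generated essential subgroups that are not normal

For `p ≥ 5` and elementary sections of order at most `p³` a nonabelian one has order `p³`.
-/

set_option autoImplicit false

namespace CfsgLib.Fusion.Pearl

open Cfsg Cfsg.FusionSystem CfsgLib CfsgLib.Fusion CfsgLib.Fusion.RankThree CfsgLib.Fusion.TransvAut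
  CfsgLib.Fusion.NormalEssential
open scoped commutatorElement

variable {p : ℕ} [hp : Fact p.Prime]

/-- With two transvections one of which comes from an automorphism of order `p` modulo inner ones,
the abelianization has exponent `p`. -/
theorem Pair.frattini_eq {X : Type*} [Group X] [Finite X] {σ τ : MulAut X} {e f : X}
    (hX : IsPGroup p X) (hP : Pair p σ τ e f) (hp5 : 5 ≤ p) (hσp : σ ^ p ∈ Inn X)
    (h2 : (frattini X).index ≤ p ^ 2) : frattini X = commutator X := by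
  have hcΦ : commutator X ≤ frattini X := PGroups.commutator_le_frattini' hX
  obtain ⟨π, hπ⟩ : ∃ π, π = QuotientGroup.mk' (commutator X) := ⟨_, rfl⟩
  have hπs : Function.Surjective π := hπ ▸ QuotientGroup.mk'_surjective _
  letI : CommGroup (X ⧸ commutator X) :=
    { (inferInstance : Group (X ⧸ commutator X)) with
      mul_comm :=
        (Subgroup.Normal.quotient_commutative_iff_commutator_le.mpr le_rfl :
          IsMulCommutative (X ⧸ commutator X)).is_comm.comm }
  let K : Subgroup X := ((powMonoidHom p : (X ⧸ commutator X) →* (X ⧸ commutator X)).ker).comap π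
  have hK : ∀ {x : X}, x ∈ K ↔ x ^ p ∈ commutator X := by
    intro x
    show π x ^ p = 1 ↔ _
    rw [← map_pow, hπ, QuotientGroup.mk'_apply, QuotientGroup.eq_one_iff]
  have hKinv : ∀ ρ : MulAut X, ∀ x ∈ K, ρ x ∈ K := fun ρ x hx => hK.2 (by
    rw [← map_pow]
    exact (Subgroup.characteristic_iff_map_le.1 (inferInstance : (commutator X).Characteristic) ρ)
      ⟨_, hK.1 hx, rfl⟩)
  have hsupinv : ∀ ρ : MulAut X, ∀ x ∈ K ⊔ frattini X, ρ x ∈ K ⊔ frattini X := fun ρ x hx => by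
    have hle : K ⊔ frattini X ≤ (K ⊔ frattini X).comap ρ.toMonoidHom := sup_le
      (fun y hy => Subgroup.mem_sup_left (hKinv ρ y hy))
      (fun y hy => Subgroup.mem_sup_right
        ((Subgroup.characteristic_iff_map_le.1 (inferInstance : (frattini X).Characteristic) ρ)
          ⟨_, hy, rfl⟩))
    exact hle hx
  refine le_antisymm ?_ hcΦ
  by_cases hKΦ : K ≤ frattini X
  · exfalso
    have hΦpow : frattini X ≤
        ((powMonoidHom p : (X ⧸ commutator X) →* (X ⧸ commutator X)).range).comap π := by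
      rw [PGroups.frattini_eq_commutator_sup hX, sup_le_iff, Subgroup.closure_le]
      refine ⟨fun x hx => ⟨1, ?_⟩, ?_⟩
      · show (1 : X ⧸ commutator X) ^ p = π x
        rw [one_pow, hπ, QuotientGroup.mk'_apply, (QuotientGroup.eq_one_iff x).2 hx]
      · rintro _ ⟨x, rfl⟩
        exact ⟨π x, (map_pow π x p).symm⟩
    have hA : IsPGroup p (X ⧸ commutator X) := hX.to_quotient _
    have hle : frattini (X ⧸ commutator X) ≤ (frattini X).map π := by
      haveI : ((frattini X).map π).Normal := Subgroup.Normal.map inferInstance π hπs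
      refine PGroups.frattini_le_of_elementary (p := p) ?_ fun y => ?_
      · show ⁅(⊤ : Subgroup (X ⧸ commutator X)), (⊤ : Subgroup (X ⧸ commutator X))⁆ ≤ _
        rw [Subgroup.commutator_le]
        intro a _ b _
        rw [commutatorElement_eq_one_iff_mul_comm.2 (mul_comm a b)]
        exact one_mem _
      · obtain ⟨x, rfl⟩ := hπs y
        exact ⟨x ^ p, PGroups.pow_mem_frattini hX x, map_pow π x p⟩
    have h2' : (frattini (X ⧸ commutator X)).index ≤ p ^ 2 := by
      refine le_trans ?_ h2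
      rw [← Subgroup.index_comap_of_surjective _ hπs]
      exact Nat.le_of_dvd (Nat.pos_of_ne_zero Subgroup.index_ne_zero_of_finite)
        (Subgroup.index_dvd_of_le (frattini_le_comap_frattini_of_surjective hπs))
    have hker : ∀ y : X ⧸ commutator X, y ^ p = 1 → ∃ w, y = w ^ p := fun y hy => by
      obtain ⟨x, rfl⟩ := hπs y
      obtain ⟨w, hw⟩ := hΦpow (hKΦ (show x ∈ K from hy))
      exact ⟨w, hw.symm⟩
    have hmap : (commutator X).map σ.toMonoidHom = commutator X :=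
      Subgroup.characteristic_iff_map_eq.1 inferInstance σ
    obtain ⟨ρ, hρ⟩ : ∃ ρ, ρ = QuotientGroup.congr (commutator X) (commutator X) σ hmap := ⟨_, rfl⟩
    have hρv : ∀ x : X, ρ (π x) = π (σ x) := fun x => by rw [hρ, hπ]; rfl
    have hρn : ∀ (n : ℕ) (x : X), (ρ ^ n) (π x) = π ((σ ^ n) x) := by
      intro n x
      induction n with
      | zero => rfl
      | succ n ih => rw [pow_succ', pow_succ', MulAut.mul_apply, MulAut.mul_apply, ih, hρv]
    have hρp : ρ ^ p = 1 := MulEquiv.ext fun y => by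
      obtain ⟨x, rfl⟩ := hπs y
      obtain ⟨u, hu⟩ := hσp
      rw [hρn, ← hu, MulAut.one_apply, MulAut.conj_apply, map_mul, map_mul, map_inv,
        mul_inv_cancel_comm]
    have hfix := homocyclic_stabilizes hp5 hA h2' hker ρ hρp (π e)
    rw [hρv, ← map_inv, ← map_mul] at hfix
    obtain ⟨v, hv, hvπ⟩ := hle hfix
    rw [hπ] at hvπ
    have hmem := mul_mem hv (hcΦ (QuotientGroup.eq.1 hvπ))
    rw [mul_inv_cancel_left] at hmem
    refine hP.notMem ?_
    obtain ⟨φ, hφ, hσe⟩ : ∃ φ ∈ frattini X, σ e = f * e * φ :=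
      ⟨_, hP.σe, (mul_inv_cancel_left _ _).symm⟩
    rw [hσe] at hmem
    have h := mul_mem hmem (inv_mem ((inferInstance : (frattini X).Normal).conj_mem φ hφ e))
    rwa [show f * e * φ * e⁻¹ * (e * φ * e⁻¹)⁻¹ = f by group] at h
  · obtain ⟨v, hv, hvΦ⟩ := SetLike.not_le_iff_exists.1 hKΦ
    have htop := hP.invariant_all hX le_sup_right (hsupinv σ) (hsupinv τ)
      (Subgroup.mem_sup_left hv) hvΦ
    have hKtop : K = ⊤ := frattini_nongenerating htop
    rw [PGroups.frattini_eq_commutator_sup hX, sup_le_iff, Subgroup.closure_le]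
    refine ⟨le_rfl, ?_⟩
    rintro _ ⟨x, rfl⟩
    exact hK.1 (hKtop ▸ Subgroup.mem_top x)

variable {Ω : Type*} [Group Ω] {S : Subgroup Ω} [Finite S] {F : FusionSystem S} {P : Subgroup Ω}

/-- `N_S(P)` has index `p` over a two-generated essential subgroup. -/
theorem step_normalizerIn (hS : IsPGroup p S) (hP : F.IsEssential p P)
    (h2 : (frattini P).index = p ^ 2) {g : normalizerIn S P} (hg : (g : Ω) ∉ P)
    (hgp : (g : Ω) ^ p ∈ P) :
    Step p (normalizerIn S P) P ∧
      orderOf (outAut F P ⟨conjAut g, conjAut_mem_autGroup hP.1.1 g⟩) = p := by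
  have hp' := hp.out
  have hPS := hP.1.1
  have := finite_le hPS
  have := finite_le (normalizerIn_le (S := S) P)
  have hPp : IsPGroup p P := hS.to_le hPS
  letI : CommGroup (P ⧸ frattini P) :=
    { (inferInstance : Group (P ⧸ frattini P)) with mul_comm := quot_comm hPp }
  let f : normalizerIn S P →* MulAut (P ⧸ frattini P) :=
    (outAut F P).comp (((P.normalizerMonoidHom.comp (Subgroup.inclusion inf_le_right)).codRestrict
      (F.autGroup P) fun g : normalizerIn S P => conjAut_mem_autGroup hPS g))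
  have hf : ∀ m, f m = outAut F P ⟨conjAut m, conjAut_mem_autGroup hPS m⟩ := fun m => rfl
  have hker : f.ker = P.subgroupOf (normalizerIn S P) := by
    ext m
    rw [MonoidHom.mem_ker, hf, Subgroup.mem_subgroupOf]
    exact ⟨fun h => mem_of_conjAut_inn hP.1 m (outAut_ker hS hP h),
      fun h => outAut_inn hS hPS ⟨⟨(m : Ω), h⟩, MulEquiv.ext fun x => Subtype.ext rfl⟩⟩
  have hrp : IsPGroup p f.range :=
    (hS.to_le (normalizerIn_le (S := S) P)).of_surjective _ f.rangeRestrict_surjective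
  have hg1 : f g ≠ 1 := fun h => hg (Subgroup.mem_subgroupOf.1 (hker ▸ MonoidHom.mem_ker.2 h))
  have hgp1 : f g ^ p = 1 := by
    rw [← map_pow, ← MonoidHom.mem_ker, hker, Subgroup.mem_subgroupOf, SubgroupClass.coe_pow]
    exact hgp
  have ho : orderOf (f g) = p := orderOf_eq_prime hgp1 hg1
  refine ⟨⟨le_normalizerIn hPS, inf_le_right, ?_⟩, ho⟩
  have hle := le_zpowers_of_sq (quot_pow hPp) (h2 : Nat.card (P ⧸ frattini P) = p ^ 2) hrp
    (σ := f g) ⟨g, rfl⟩ hg1
  have heq : f.range = Subgroup.zpowers (f g) :=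
    le_antisymm hle (Subgroup.zpowers_le.2 ⟨g, rfl⟩)
  rw [f.ker.card_eq_card_quotient_mul_card_subgroup,
    Nat.card_congr (QuotientGroup.quotientKerEquivRange f).toEquiv, heq, Nat.card_zpowers, ho, hker,
    Nat.card_congr (Subgroup.subgroupOfEquivOfLe (le_normalizerIn hPS)).toEquiv]

/-- The transvections of a two-generated essential subgroup. -/
theorem exists_pair (hS : IsPGroup p S) (hP : F.IsEssential p P)
    (h2 : (frattini P).index = p ^ 2) {g : normalizerIn S P}
    (hzo : orderOf (outAut F P ⟨conjAut g, conjAut_mem_autGroup hP.1.1 g⟩) = p) :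
    ∃ (τ : MulAut P) (e f : P), Pair p (conjAut g) τ e f := by
  have hp' := hp.out
  have hPS := hP.1.1
  have := finite_le hPS
  have := finite_le (normalizerIn_le (S := S) P)
  have hPp : IsPGroup p P := hS.to_le hPS
  letI : CommGroup (P ⧸ frattini P) :=
    { (inferInstance : Group (P ⧸ frattini P)) with mul_comm := quot_comm hPp }
  have hexp : ∀ v : P ⧸ frattini P, v ^ p = 1 := quot_pow hPp
  have hV : Nat.card (P ⧸ frattini P) = p ^ 2 := h2
  obtain ⟨π, hπ⟩ : ∃ π, π = QuotientGroup.mk' (frattini P) := ⟨_, rfl⟩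
  have hπs : Function.Surjective π := hπ ▸ QuotientGroup.mk'_surjective _
  obtain ⟨zc, hzc⟩ : ∃ zc, zc = (⟨conjAut g, conjAut_mem_autGroup hPS g⟩ : F.autGroup P) :=
    ⟨_, rfl⟩
  rw [← hzc] at hzo
  obtain ⟨Z, hZdef⟩ : ∃ Z, Z = outAut F P zc := ⟨_, rfl⟩
  rw [← hZdef] at hzo
  have hZp : Z ^ p ^ 1 = 1 := by rw [pow_one, ← hzo, pow_orderOf_eq_one]
  have hZ1 : Z ≠ 1 := fun h => by rw [h, orderOf_one] at hzo; exact hp'.one_lt.ne hzo
  obtain ⟨a₀, ha1, himg⟩ := exists_img_of_sq hexp hV hZp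
  have hfix : Z a₀ = a₀ := fix_of_img hexp himg hZp
  obtain ⟨α, hα⟩ := exists_moved_conj hS hP zc (by rw [← hZdef]; exact hzo)
  obtain ⟨T, hT⟩ : ∃ T, T = outAut F P (α * zc * α⁻¹) := ⟨_, rfl⟩
  rw [← hT, ← hZdef] at hα
  obtain ⟨E, hEdef⟩ : ∃ E, E = outAut F P α a₀ := ⟨_, rfl⟩
  have hTv : ∀ v, T v = outAut F P α (Z ((outAut F P α)⁻¹ v)) := fun v => by
    rw [hT, map_mul, map_mul, map_inv, ← hZdef]; rfl
  have hTimg : ∀ v, T v * v⁻¹ ∈ Subgroup.zpowers E := by
    intro v
    obtain ⟨i, hi⟩ := Subgroup.mem_zpowers_iff.1 (himg ((outAut F P α)⁻¹ v))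
    refine Subgroup.mem_zpowers_iff.2 ⟨i, ?_⟩
    rw [hEdef, ← map_zpow, hi, map_mul, map_inv, ← hTv, MulAut.apply_inv_self]
  have hTE : T E = E := by rw [hTv, hEdef, MulAut.inv_apply_self, hfix]
  have hE1 : E ≠ 1 := fun h => ha1 ((outAut F P α).injective (by rw [map_one, ← hEdef, h]))
  have hEa : E ∉ Subgroup.zpowers a₀ := by
    intro hmem
    let Q : Subgroup (MulAut (P ⧸ frattini P)) :=
      { carrier := {θ | θ a₀ = a₀ ∧ ∀ v, θ v * v⁻¹ ∈ Subgroup.zpowers a₀}
        one_mem' := ⟨rfl, fun v => by rw [MulAut.one_apply, mul_inv_cancel]; exact one_mem _⟩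
        mul_mem' := fun {a b} ha hb => ⟨by rw [MulAut.mul_apply, hb.1, ha.1], fun v => by
          rw [MulAut.mul_apply, show a (b v) * v⁻¹ = a (b v) * (b v)⁻¹ * (b v * v⁻¹) by
            rw [mul_assoc (a (b v)), inv_mul_cancel_left]]
          exact mul_mem (ha.2 _) (hb.2 _)⟩
        inv_mem' := fun {a} ha => ⟨by
          conv_lhs => rw [← ha.1]
          exact MulAut.inv_apply_self _ a _, fun v => by
          have h := inv_mem (ha.2 (a⁻¹ v))
          rwa [MulAut.apply_inv_self, mul_inv_rev, inv_inv] at h⟩ }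
    have hQp : IsPGroup p Q := fun θ => ⟨1, Subtype.ext (MulEquiv.ext fun v => by
      obtain ⟨i, hi⟩ := Subgroup.mem_zpowers_iff.1 (θ.2.2 v)
      rw [pow_one, SubgroupClass.coe_pow, Subgroup.coe_one, MulAut.one_apply]
      exact PGroups.Transvections.pow_fix (v := a₀ ^ i)
        (by rw [hi, mul_comm v, inv_mul_cancel_right]) (by rw [map_zpow, θ.2.1]) (hexp _))⟩
    obtain ⟨k, hk⟩ := Subgroup.mem_zpowers_iff.1 hmem
    have hle : Subgroup.zpowers E ≤ Subgroup.zpowers a₀ := Subgroup.zpowers_le.2 hmem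
    have hTa : T a₀ = a₀ := by
      have ha : a₀ ∈ Subgroup.zpowers E := by
        have hEq : Subgroup.zpowers E = Subgroup.zpowers a₀ := Subgroup.eq_of_le_of_card_ge hle (by
          rw [Nat.card_zpowers, Nat.card_zpowers, orderOf_eq_prime (hexp E) hE1,
            orderOf_eq_prime (hexp a₀) ha1])
        rw [hEq]; exact Subgroup.mem_zpowers _
      obtain ⟨m, hm⟩ := Subgroup.mem_zpowers_iff.1 ha
      rw [← hm, map_zpow, hTE]
    exact hα (le_zpowers_of_sq hexp hV hQp (σ := Z) ⟨hfix, himg⟩ hZ1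
      (show T ∈ Q from ⟨hTa, fun v => hle (hTimg v)⟩))
  have htop : ∀ v, ∃ i j : ℤ, v = a₀ ^ i * E ^ j := by
    obtain ⟨hc, hdec⟩ := card_sup_zpowers_of_pow_mem (Z := Subgroup.zpowers a₀) (x := E)
      (fun c _ => mul_comm c E) (by rw [hexp]; exact one_mem _) hEa
    have htop : Subgroup.zpowers a₀ ⊔ Subgroup.zpowers E = ⊤ := Subgroup.eq_top_of_le_card _ (by
      rw [hc, Nat.card_zpowers, orderOf_eq_prime (hexp a₀) ha1, hV, pow_two])
    intro v
    obtain ⟨c, hc, j, hj⟩ := hdec v (htop ▸ Subgroup.mem_top v)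
    obtain ⟨i, rfl⟩ := Subgroup.mem_zpowers_iff.1 hc
    exact ⟨i, j, by rw [hj, zpow_natCast]⟩
  have hdvd : ∀ {x : P ⧸ frattini P} {i : ℤ}, (p : ℤ) ∣ i → x ^ i = 1 := fun {x i} h => by
    obtain ⟨c, rfl⟩ := h
    rw [zpow_mul, zpow_natCast, hexp, one_zpow]
  obtain ⟨i₀, hi₀⟩ := Subgroup.mem_zpowers_iff.1 (himg E)
  have hi₀' : ¬ (p : ℤ) ∣ i₀ := fun h => hZ1 (MulEquiv.ext fun v => by
    obtain ⟨a, b, rfl⟩ := htop v
    rw [hdvd h] at hi₀
    rw [map_mul, map_zpow, map_zpow, hfix, mul_inv_eq_one.1 hi₀.symm, MulAut.one_apply])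
  obtain ⟨e, he⟩ := hπs E
  obtain ⟨f, hf⟩ : ∃ f, f = conjAut g e * e⁻¹ := ⟨_, rfl⟩
  have hZπ : ∀ x, π (conjAut g x) = Z (π x) := fun x => by rw [hZdef, hzc, hπ]; rfl
  have hFdef : π f = a₀ ^ i₀ := by rw [hf, map_mul, map_inv, hZπ, he, hi₀]
  have hFgen : ∀ i : ℤ, ∃ k : ℤ, a₀ ^ i = (π f) ^ k := by
    obtain ⟨u, v, huv⟩ :=
      ((Nat.prime_iff_prime_int.1 hp').coprime_iff_not_dvd.2 hi₀' : IsCoprime (p : ℤ) i₀)
    exact fun i => ⟨v * i, by
      rw [hFdef, ← zpow_mul, show i₀ * (v * i) = i + (p : ℤ) * (-(u * i)) by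
        linear_combination i * huv, zpow_add, hdvd (dvd_mul_right _ _), mul_one]⟩
  have hTF : T (π f) * (π f)⁻¹ ∈ Subgroup.zpowers E := hTimg _
  obtain ⟨j, hj⟩ := Subgroup.mem_zpowers_iff.1 hTF
  have hjn : ¬ (p : ℤ) ∣ j := fun h => by
    rw [hdvd h] at hj
    have hT1 : T = 1 := MulEquiv.ext fun v => by
      obtain ⟨a, b, rfl⟩ := htop v
      obtain ⟨k, hk⟩ := hFgen a
      rw [hk, map_mul, map_zpow, map_zpow, mul_inv_eq_one.1 hj.symm, hTE, MulAut.one_apply]
    exact hα (hT1 ▸ one_mem _)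
  have hmem : ∀ {u w : P}, π u = π w → u⁻¹ * w ∈ frattini P := fun {u w} h => by
    rw [hπ] at h; exact QuotientGroup.eq.1 h
  refine ⟨((α * zc * α⁻¹ : F.autGroup P) : MulAut P), e, f, ⟨fun x => ?_, ?_, ?_, ?_, ?_, ?_, ?_, ?_⟩⟩
  · obtain ⟨a, b, hab⟩ := htop (π x)
    obtain ⟨k, hk⟩ := hFgen a
    exact ⟨b, k, hmem (by rw [map_mul, map_zpow, map_zpow, he, hab, hk, mul_comm])⟩
  · intro h
    have h1 : π f = 1 := by rw [hπ]; exact (QuotientGroup.eq_one_iff _).2 h
    rw [hFdef] at h1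
    refine ha1 (Subgroup.mem_bot.1 (eq_one_of_zpow (p := p) (K := (⊥ : Subgroup (P ⧸ frattini P))) ?_
      hi₀' (Subgroup.mem_bot.2 h1)))
    rw [Subgroup.mem_bot, hexp]
  · exact hmem (by rw [map_mul, hZπ, he, hFdef, hi₀, inv_mul_cancel_right])
  · exact hmem (by rw [hZπ, hFdef, map_zpow, hfix])
  · exact hmem (show π e = π (((α * zc * α⁻¹ : F.autGroup P) : MulAut P) e) by
      rw [show π (((α * zc * α⁻¹ : F.autGroup P) : MulAut P) e) = T (π e) by rw [hT, hπ]; rfl, he, hTE])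
  · refine ⟨j, hjn, hmem ?_⟩
    rw [show π (((α * zc * α⁻¹ : F.autGroup P) : MulAut P) f) = T (π f) by rw [hT, hπ]; rfl,
      map_mul, map_zpow, he, hj, mul_comm (π f), inv_mul_cancel_right]
  · exact conjAut_pow_eq_one hS g
  · obtain ⟨t, ht⟩ := conjAut_pow_eq_one hS g
    refine ⟨t, ?_⟩
    rw [← SubgroupClass.coe_pow, conj_pow, show zc ^ p ^ t = 1 from Subtype.ext (by
      rw [SubgroupClass.coe_pow, hzc]; exact ht), mul_one, mul_inv_cancel]
    rfl

/-- A nonnormal nonabelian two-generated essential subgroup has order `p³`. -/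
theorem card_of_nonabelian (hS : IsPGroup p S) (hp5 : 5 ≤ p) (hsr : SecLE p S) (hF : F.IsSaturated p)
    (hP : F.IsEssential p P) (h2 : (frattini P).index ≤ p ^ 2)
    (hnn : ¬ S ≤ Subgroup.normalizer (P : Set Ω)) (hnab : ¬ IsMulCommutative P) :
    Nat.card P = p ^ 3 := by
  have hp' := hp.out
  have hPS := hP.1.1
  have := finite_le hPS
  have hPp : IsPGroup p P := hS.to_le hPS
  have hidx : (frattini P).index = p ^ 2 := by
    obtain ⟨k, hk⟩ := hPp.index (frattini P)
    rw [hk] at h2 ⊢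
    have hk2 := (Nat.pow_le_pow_iff_right hp'.one_lt).1 h2
    by_contra hne
    have hk' : k ≠ 2 := fun h => hne (by rw [h])
    have hcyc : IsCyclic (P ⧸ frattini P) := by
      rcases (show k = 0 ∨ k = 1 by omega) with h | h
      · have h1 : Nat.card (P ⧸ frattini P) = 1 := by
          rw [← Subgroup.index_eq_card, hk, h, pow_zero]
        haveI := (Nat.card_eq_one_iff_unique.1 h1).1
        infer_instance
      · exact isCyclic_of_prime_card (p := p) (by rw [← Subgroup.index_eq_card, hk, h, pow_one])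
    obtain ⟨q, hq⟩ := hcyc.exists_generator
    obtain ⟨x, rfl⟩ := QuotientGroup.mk'_surjective _ q
    have htop : Subgroup.zpowers x ⊔ frattini P = ⊤ := eq_top_iff.2 fun y _ => by
      obtain ⟨i, hi⟩ := Subgroup.mem_zpowers_iff.1 (hq (QuotientGroup.mk' _ y))
      rw [← map_zpow] at hi
      rw [show y = x ^ i * ((x ^ i)⁻¹ * y) by rw [mul_inv_cancel_left]]
      exact Subgroup.mul_mem_sup (zpow_mem (Subgroup.mem_zpowers x) i) (QuotientGroup.eq.1 hi)
    have hx : Subgroup.zpowers x = ⊤ := frattini_nongenerating htop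
    refine hnab ⟨⟨fun a b => ?_⟩⟩
    obtain ⟨i, rfl⟩ := Subgroup.mem_zpowers_iff.1 (hx ▸ Subgroup.mem_top a)
    obtain ⟨j, rfl⟩ := Subgroup.mem_zpowers_iff.1 (hx ▸ Subgroup.mem_top b)
    exact ((Commute.refl x).zpow_zpow i j).eq
  obtain ⟨g, hg, hgp⟩ := exists_step hS hPS (isEssential_ne_self hS hF hP)
  obtain ⟨hdP, hzo⟩ := step_normalizerIn hS hP hidx hg hgp
  obtain ⟨τ, e, f, hpair⟩ := exists_pair hS hP hidx hzo
  have hσp : (conjAut g) ^ p ∈ Inn P :=
    ⟨⟨(g : Ω) ^ p, hgp⟩, MulEquiv.ext fun x => Subtype.ext (by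
      rw [conjAut_pow]; simp [MulAut.conj_apply])⟩
  have hΦ := hpair.frattini_eq hPp hp5 hσp hidx.le
  have hp2 : p ≠ 2 := by omega
  have hNS := normalizerIn_le (S := S) P
  have := finite_le hNS
  have hlt : normalizerIn S P < S := lt_of_le_of_ne hNS fun h => hnn (h ▸ inf_le_right)
  obtain ⟨h, hh, hhN⟩ := exists_mem_normalizerIn_not_mem hS hlt
  obtain ⟨R, hR⟩ : ∃ R, R = P.map (MulAut.conj h).toMonoidHom := ⟨_, rfl⟩
  have hhN' : ∀ w, w ∈ normalizerIn S P ↔ h * w * h⁻¹ ∈ normalizerIn S P :=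
    fun w => Subgroup.mem_normalizer_iff.1 hh.2 w
  have hdR : Step p (normalizerIn S P) R := by
    refine ⟨?_, le_normalizer_of_conj' ?_, ?_⟩
    · rw [hR]
      rintro _ ⟨x, hx, rfl⟩
      exact (hhN' x).1 (hdP.le hx)
    · intro s hs w hw
      rw [hR] at hw ⊢
      obtain ⟨x, hx, rfl⟩ := hw
      have hs' : h⁻¹ * s * h ∈ normalizerIn S P := by
        refine (hhN' _).2 ?_
        rwa [show h * (h⁻¹ * s * h) * h⁻¹ = s by group]
      refine ⟨_, conj_mem_E hdP.norm hs' hx, ?_⟩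
      simp only [MulEquiv.coe_toMonoidHom, MulAut.conj_apply]
      group
    · rw [hR, Subgroup.card_map_of_injective (MulEquiv.injective _)]
      exact hdP.card
  have hne : R ≠ P := by
    intro e
    obtain ⟨x, hx⟩ := RankThree.exists_moved (S := S) hPS hh.1 hhN
    refine hx ?_
    have hmem : h * (x : Ω) * h⁻¹ ∈ R := hR ▸ ⟨x, x.2, rfl⟩
    rwa [e] at hmem
  have h3 := gamma_three_eq_bot (hS.to_le hNS) hp2 hdP hdR hne
    (((MulAut.conj h).subgroupMap P).trans (MulEquiv.subgroupCongr hR.symm)) (g := g) hg (τ := τ)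
    (e := e) (f := f) hpair hΦ (hsr.of_injective _ (Subgroup.inclusion_injective hPS))
  have hle := hpair.card_commutator_le hPp hΦ hp2 h3
  have hc : Nat.card (commutator P) = p := by
    obtain ⟨k, hk⟩ := (hPp.to_subgroup (commutator P)).exists_card_eq
    have hk0 : k ≠ 0 := fun h0 => hnab ⟨⟨fun a b => by
      rw [h0, pow_zero] at hk
      have h1 : ⁅a, b⁆ ∈ commutator P :=
        Subgroup.commutator_mem_commutator (Subgroup.mem_top a) (Subgroup.mem_top b)
      rw [Subgroup.eq_bot_of_card_eq _ hk, Subgroup.mem_bot] at h1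
      exact commutatorElement_eq_one_iff_mul_comm.1 h1⟩⟩
    rw [hk] at hle ⊢
    have := (Nat.pow_le_pow_iff_right hp'.one_lt).1 (hle.trans (pow_one p).ge)
    rw [show k = 1 by omega, pow_one]
  rw [← (frattini P).card_mul_index, hidx, hΦ, hc]
  ring
where
  le_normalizer_of_conj' {K T : Subgroup Ω} (h : ∀ s ∈ T, ∀ w ∈ K, s * w * s⁻¹ ∈ K) :
      T ≤ Subgroup.normalizer (K : Set Ω) := fun s hs => by
    refine Subgroup.mem_normalizer_iff.2 fun w => ⟨h s hs w, fun hw => ?_⟩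
    have := h s⁻¹ (inv_mem hs) _ hw
    rwa [inv_inv, show s⁻¹ * (s * w * s⁻¹) * s = w by group] at this

end CfsgLib.Fusion.Pearl
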