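import Cfsg.Agent.Lib.Fusion.Pearl.Commutators
import Cfsg.Agent.Lib.Fusion.RankThreeAutomizer
import Cfsg.Agent.Lib.Fusion.RankThreeRadical
import Cfsg.Agent.Lib.Fusion.ChainExtend

/-!
# Two-generated `p`-groups with two independent transvections on the Frattini quotient

If `Φ(X) = [X, X]` and the elementary sections have order at most `p³`, then `γ₄(X) = 1`, the powers
lie in `γ₃(X)` and `γ₂(X) / γ₃(X)` has order at most `p`.
-/

set_option autoImplicit false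

namespace CfsgLib.Fusion.Pearl

open Cfsg CfsgLib CfsgLib.Fusion CfsgLib.Fusion.RankThree
open scoped commutatorElement

variable {p : ℕ} [hp : Fact p.Prime] {X : Type*} [Group X]

/-- The lower central series. -/
abbrev lcsTop (X : Type*) [Group X] (k : ℕ) : Subgroup X := (⊤ : Subgroup X).lowerCentralSeries k

omit hp in
theorem lcsTop_one : lcsTop X 1 = commutator X := Subgroup.top_lowerCentralSeries_one

omit hp in
theorem lcsTop_comm {k : ℕ} {w : X} (hw : w ∈ lcsTop X k) (x : X) : ⁅w, x⁆ ∈ lcsTop X (k + 1) :=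
  Subgroup.commutator_mem_commutator hw (Subgroup.mem_top x)

omit hp in
theorem lcsTop_comm' {k : ℕ} {w : X} (hw : w ∈ lcsTop X k) (x : X) : ⁅x, w⁆ ∈ lcsTop X (k + 1) := by
  rw [← commutatorElement_inv]; exact inv_mem (lcsTop_comm hw x)

omit hp in
theorem lcsTop_map (σ : MulAut X) {k : ℕ} {w : X} (hw : w ∈ lcsTop X k) : σ w ∈ lcsTop X k :=
  (Subgroup.characteristic_iff_map_le.1 (inferInstance : (lcsTop X k).Characteristic) σ) ⟨w, hw, rfl⟩

omit hp in
/-- Images of `γ_{k+1}` are central modulo `γ_{k+2}`. -/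
theorem central_image (k : ℕ) {w : X} (hw : w ∈ lcsTop X k) :
    QuotientGroup.mk' (lcsTop X (k + 1)) w ∈ Subgroup.center (X ⧸ lcsTop X (k + 1)) := by
  refine Subgroup.mem_center_iff.2 fun q => ?_
  obtain ⟨x, rfl⟩ := QuotientGroup.mk'_surjective _ q
  rw [← commutatorElement_eq_one_iff_mul_comm, ← map_commutatorElement, QuotientGroup.mk'_apply,
    QuotientGroup.eq_one_iff]
  exact lcsTop_comm' hw x

/-- Two transvections with independent centres on the Frattini quotient. -/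
structure Pair (p : ℕ) {X : Type*} [Group X] (σ τ : MulAut X) (e f : X) : Prop where
  gen : ∀ x : X, ∃ a b : ℤ, (e ^ a * f ^ b)⁻¹ * x ∈ frattini X
  notMem : f ∉ frattini X
  σe : (f * e)⁻¹ * σ e ∈ frattini X
  σf : f⁻¹ * σ f ∈ frattini X
  τe : e⁻¹ * τ e ∈ frattini X
  τf : ∃ j : ℤ, ¬ (p : ℤ) ∣ j ∧ (f * e ^ j)⁻¹ * τ f ∈ frattini X
  σp : ∃ k : ℕ, σ ^ p ^ k = 1
  τp : ∃ k : ℕ, τ ^ p ^ k = 1

variable {σ τ : MulAut X} {e f : X} [Finite X] (hX : IsPGroup p X) (hP : Pair p σ τ e f)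

include hX hP in
/-- An invariant subgroup above `Φ(X)` is `Φ(X)` or everything. -/
theorem Pair.invariant_all {K : Subgroup X} (hΦK : frattini X ≤ K) (hσ : ∀ x ∈ K, σ x ∈ K)
    (hτ : ∀ x ∈ K, τ x ∈ K) {v : X} (hv : v ∈ K) (hvΦ : v ∉ frattini X) : K = ⊤ := by
  have hp' := hp.out
  letI : CommGroup (X ⧸ frattini X) :=
    { (inferInstance : Group (X ⧸ frattini X)) with mul_comm := quot_comm hX }
  obtain ⟨π, hπ⟩ : ∃ π, π = QuotientGroup.mk' (frattini X) := ⟨_, rfl⟩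
  have hmem : ∀ {u w : X}, u ∈ K → π u = π w → w ∈ K := by
    intro u w hu h
    rw [hπ] at h
    have := mul_mem hu (hΦK (QuotientGroup.eq.1 h))
    rwa [mul_inv_cancel_left] at this
  have heq : ∀ {u w : X}, u⁻¹ * w ∈ frattini X → π w = π u := fun h => by
    rw [hπ]; exact (QuotientGroup.eq.2 h).symm
  obtain ⟨j, hj, hτf⟩ := hP.τf
  have hfK : f ∈ K := by
    obtain ⟨a, b, hab⟩ := hP.gen v
    have hfa : f ^ a ∈ K := by
      refine hmem (mul_mem (inv_mem hv) (hσ v hv)) ?_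
      have h1 : π v = π e ^ a * π f ^ b := by rw [heq hab, map_mul, map_zpow, map_zpow]
      have h2 : π (σ v) = (π f * π e) ^ a * π f ^ b := by
        obtain ⟨w, hw⟩ : ∃ w, w = (e ^ a * f ^ b)⁻¹ * v := ⟨_, rfl⟩
        have hwv : v = e ^ a * f ^ b * w := by rw [hw, mul_inv_cancel_left]
        have hwσ : σ w ∈ frattini X :=
          (Subgroup.characteristic_iff_map_le.1 (inferInstance : (frattini X).Characteristic) σ)
            ⟨w, hw ▸ hab, rfl⟩
        rw [hwv, map_mul, map_mul, map_mul, map_mul, map_zpow, map_zpow, map_zpow, map_zpow,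
          heq hP.σe, heq hP.σf, map_mul,
          show π (σ w) = 1 by rw [hπ]; exact (QuotientGroup.eq_one_iff _).2 hwσ, mul_one]
      rw [map_mul, map_inv, h1, h2, map_zpow, mul_zpow, mul_assoc (π f ^ a), mul_comm (π f ^ a),
        inv_mul_cancel_left]
    by_cases ha : (p : ℤ) ∣ a
    · have hea : e ^ a ∈ frattini X := by
        obtain ⟨c, rfl⟩ := ha
        rw [zpow_mul, zpow_natCast]
        exact zpow_mem (PGroups.pow_mem_frattini hX e) c
      have hfb : f ^ b ∈ K := by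
        have := mul_mem (inv_mem (hΦK hea)) (mul_mem hv (inv_mem (hΦK hab)))
        rwa [mul_inv_rev, inv_inv, mul_inv_cancel_left, inv_mul_cancel_left] at this
      refine eq_one_of_zpow (hΦK (PGroups.pow_mem_frattini hX f)) (fun hb => hvΦ ?_) hfb
      obtain ⟨c, rfl⟩ := hb
      have hfb' : f ^ ((p : ℤ) * c) ∈ frattini X := by
        rw [zpow_mul, zpow_natCast]
        exact zpow_mem (PGroups.pow_mem_frattini hX f) c
      have := mul_mem (mul_mem hea hfb') hab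
      rwa [mul_inv_cancel_left] at this
    · exact eq_one_of_zpow (hΦK (PGroups.pow_mem_frattini hX f)) ha hfa
  have heK : e ∈ K := by
    refine eq_one_of_zpow (hΦK (PGroups.pow_mem_frattini hX e)) hj ?_
    refine hmem (mul_mem (inv_mem hfK) (hτ f hfK)) ?_
    rw [map_mul, map_inv, heq hτf, map_mul, inv_mul_cancel_left]
  refine eq_top_iff.2 fun x _ => ?_
  obtain ⟨a, b, hab⟩ := hP.gen x
  have := mul_mem (mul_mem (zpow_mem heK a) (zpow_mem hfK b)) (hΦK hab)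
  rwa [mul_inv_cancel_left] at this

include hX hP in
/-- `e`, `f` are independent modulo `Φ(X)`. -/
theorem Pair.indep {a b : ℤ} (h : e ^ a * f ^ b ∈ frattini X) : (p : ℤ) ∣ a ∧ (p : ℤ) ∣ b := by
  letI : CommGroup (X ⧸ frattini X) :=
    { (inferInstance : Group (X ⧸ frattini X)) with mul_comm := quot_comm hX }
  obtain ⟨π, hπ⟩ : ∃ π, π = QuotientGroup.mk' (frattini X) := ⟨_, rfl⟩
  have h1 : π e ^ a * π f ^ b = 1 := by
    rw [← map_zpow, ← map_zpow, ← map_mul, hπ]; exact (QuotientGroup.eq_one_iff _).2 h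
  have hσ' : π (σ e) = π f * π e ∧ π (σ f) = π f := by
    rw [hπ, ← map_mul]
    exact ⟨(QuotientGroup.eq.2 hP.σe).symm, (QuotientGroup.eq.2 hP.σf).symm⟩
  have h2 : π f ^ a * (π e ^ a * π f ^ b) = 1 := by
    have hmem : σ (e ^ a * f ^ b) ∈ frattini X :=
      (Subgroup.characteristic_iff_map_le.1 (inferInstance : (frattini X).Characteristic) σ)
        ⟨_, h, rfl⟩
    have h3 : π (σ (e ^ a * f ^ b)) = 1 := by rw [hπ]; exact (QuotientGroup.eq_one_iff _).2 hmem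
    rwa [map_mul σ, map_zpow σ, map_zpow σ, map_mul π, map_zpow π, map_zpow π, hσ'.1, hσ'.2,
      mul_zpow, mul_assoc] at h3
  rw [h1, mul_one] at h2
  have hdvd : ∀ c : ℤ, π f ^ c = 1 → (p : ℤ) ∣ c := fun c hc => by
    by_contra hcn
    refine hP.notMem (eq_one_of_zpow (PGroups.pow_mem_frattini hX f) hcn ?_)
    rw [← map_zpow, hπ] at hc
    exact (QuotientGroup.eq_one_iff _).1 hc
  refine ⟨hdvd a h2, hdvd b ?_⟩
  obtain ⟨c, rfl⟩ := hdvd a h2
  rw [← h1, zpow_mul, zpow_natCast, show π e ^ p = 1 by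
    rw [← map_pow, hπ]; exact (QuotientGroup.eq_one_iff _).2 (PGroups.pow_mem_frattini hX e),
    one_zpow, one_mul]

variable (hΦ : frattini X = commutator X)

include hP hΦ in
/-- Every element is `e^a f^b` times an element of `γ₂`. -/
theorem Pair.gen' (x : X) : ∃ a b : ℤ, ∃ φ ∈ lcsTop X 1, x = e ^ a * f ^ b * φ := by
  obtain ⟨a, b, h⟩ := hP.gen x
  exact ⟨a, b, _, lcsTop_one (X := X) ▸ hΦ ▸ h, by rw [mul_inv_cancel_left]⟩

include hX hP hΦ in
/-- `γ₂ = ⟨[e, f]⟩ γ₃`. -/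
theorem Pair.gamma_two {w : X} (hw : w ∈ lcsTop X 1) :
    ∃ m : ℤ, ∃ u ∈ lcsTop X 2, w = ⁅e, f⁆ ^ m * u := by
  obtain ⟨π, hπ⟩ : ∃ π, π = QuotientGroup.mk' (lcsTop X 2) := ⟨_, rfl⟩
  have hc : ∀ {u : X}, u ∈ lcsTop X 1 → π u ∈ Subgroup.center (X ⧸ lcsTop X 2) := fun hu => by
    rw [hπ]; exact central_image 1 hu
  have hC : ∀ u v : X, ⁅π u, π v⁆ ∈ Subgroup.center (X ⧸ lcsTop X 2) := fun u v => by
    rw [← map_commutatorElement]; exact hc (lcsTop_comm (k := 0) (Subgroup.mem_top u) v)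
  have hle : lcsTop X 1 ≤ (Subgroup.zpowers (π ⁅e, f⁆)).comap π := by
    rw [lcsTop_one, commutator_def, Subgroup.commutator_le]
    intro x _ y _
    obtain ⟨a, b, φ, hφ, rfl⟩ := hP.gen' hΦ x
    obtain ⟨a', b', ψ, hψ, rfl⟩ := hP.gen' hΦ y
    simp only [Subgroup.mem_comap, map_commutatorElement, map_mul, map_zpow]
    rw [br_central_mul (hc hφ) (hc hψ)]
    have hC' : ∀ u v : X ⧸ lcsTop X 2, ⁅u, v⁆ ∈ Subgroup.center (X ⧸ lcsTop X 2) := fun u v => by
      obtain ⟨u, rfl⟩ := QuotientGroup.mk'_surjective _ u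
      obtain ⟨v, rfl⟩ := QuotientGroup.mk'_surjective _ v
      rw [← hπ]; exact hC u v
    rw [br_mul_left (hC' _ _), br_mul_right (hC' _ _), br_mul_right (hC' _ _),
      br_eq_one ((Commute.refl (π f)).zpow_zpow b b'), br_eq_one ((Commute.refl (π e)).zpow_zpow a a'),
      mul_one, one_mul, br_zpow_left (hC' _ _), br_zpow_left (hC' _ _), br_zpow_right (hC' _ _),
      br_zpow_right (hC' _ _), ← commutatorElement_inv (π e) (π f), ← map_commutatorElement]
    exact mul_mem (zpow_mem (zpow_mem (inv_mem (Subgroup.mem_zpowers _)) a') b)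
      (zpow_mem (zpow_mem (Subgroup.mem_zpowers _) b') a)
  obtain ⟨m, hm⟩ := Subgroup.mem_zpowers_iff.1 (Subgroup.mem_comap.1 (hle hw))
  refine ⟨m, _, ?_, (mul_inv_cancel_left (⁅e, f⁆ ^ m) w).symm⟩
  rw [← map_zpow, hπ] at hm
  exact QuotientGroup.eq.1 hm

include hX hP hΦ in
/-- Both transvections fix `γ₂` modulo `γ₃`. -/
theorem Pair.fix_gamma_two :
    (∀ w ∈ lcsTop X 1, w⁻¹ * σ w ∈ lcsTop X 2) ∧ ∀ w ∈ lcsTop X 1, w⁻¹ * τ w ∈ lcsTop X 2 := by
  obtain ⟨π, hπ⟩ : ∃ π, π = QuotientGroup.mk' (lcsTop X 2) := ⟨_, rfl⟩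
  have hc : ∀ {u : X}, u ∈ lcsTop X 1 → π u ∈ Subgroup.center (X ⧸ lcsTop X 2) := fun hu => by
    rw [hπ]; exact central_image 1 hu
  have heq : ∀ {u w : X}, u⁻¹ * w ∈ frattini X → ∃ φ ∈ lcsTop X 1, π w = π u * π φ := fun {u w} h =>
    ⟨_, lcsTop_one (X := X) ▸ hΦ ▸ h, by rw [← map_mul, mul_inv_cancel_left]⟩
  have hmain : ∀ ρ : MulAut X, π (ρ ⁅e, f⁆) = π ⁅e, f⁆ →
      ∀ w ∈ lcsTop X 1, w⁻¹ * ρ w ∈ lcsTop X 2 := by
    intro ρ hρ w hw
    obtain ⟨m, u, hu, rfl⟩ := hP.gamma_two hX hΦ hw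
    have hz : ∀ {v : X}, v ∈ lcsTop X 2 → π v = 1 := fun hv => by
      rw [hπ]; exact (QuotientGroup.eq_one_iff _).2 hv
    rw [← QuotientGroup.eq_one_iff, ← QuotientGroup.mk'_apply, ← hπ, map_mul, map_inv, map_mul ρ,
      map_mul, map_mul, hz hu, hz (lcsTop_map ρ hu), mul_one, mul_one, map_zpow, map_zpow, map_zpow,
      hρ, inv_mul_cancel]
  have hC : ∀ u v : X, ⁅π u, π v⁆ ∈ Subgroup.center (X ⧸ lcsTop X 2) := fun u v => by
    rw [← map_commutatorElement]; exact hc (lcsTop_comm (k := 0) (Subgroup.mem_top u) v)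
  refine ⟨hmain σ ?_, hmain τ ?_⟩
  · obtain ⟨φ, hφ, h1⟩ := heq hP.σe
    obtain ⟨ψ, hψ, h2⟩ := heq hP.σf
    rw [map_commutatorElement, map_commutatorElement, map_commutatorElement, h1, h2,
      br_central_mul (hc hφ) (hc hψ), map_mul, br_mul_left (hC e f), br_eq_one (Commute.refl (π f)),
      mul_one]
  · obtain ⟨φ, hφ, h1⟩ := heq hP.τe
    obtain ⟨j, -, hj⟩ := hP.τf
    obtain ⟨ψ, hψ, h2⟩ := heq hj
    rw [map_commutatorElement, map_commutatorElement, map_commutatorElement, h1, h2,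
      br_central_mul (hc hφ) (hc hψ), map_mul,
      br_mul_right (by rw [map_zpow, br_eq_one ((Commute.refl (π e)).zpow_right j)]; exact one_mem _),
      map_zpow, br_eq_one ((Commute.refl (π e)).zpow_right j), mul_one]

include hX hP hΦ in
/-- `X / γ₃` has exponent `p`. -/
theorem Pair.pow_mem (hp2 : p ≠ 2) (x : X) : x ^ p ∈ lcsTop X 2 := by
  have hodd : Odd p := hp.out.odd_of_ne_two hp2
  obtain ⟨π, hπ⟩ : ∃ π, π = QuotientGroup.mk' (lcsTop X 2) := ⟨_, rfl⟩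
  have hc : ∀ {u : X}, u ∈ lcsTop X 1 → π u ∈ Subgroup.center (X ⧸ lcsTop X 2) := fun hu => by
    rw [hπ]; exact central_image 1 hu
  have hC : ∀ u v : X, ⁅π u, π v⁆ ∈ Subgroup.center (X ⧸ lcsTop X 2) := fun u v => by
    rw [← map_commutatorElement]; exact hc (lcsTop_comm (k := 0) (Subgroup.mem_top u) v)
  have hpΦ : ∀ u : X, u ^ p ∈ lcsTop X 1 := fun u => by
    rw [lcsTop_one, ← hΦ]; exact PGroups.pow_mem_frattini hX u
  have hcp : π ⁅e, f⁆ ^ p = 1 := by
    rw [map_commutatorElement, ← PGroups.comm_pow_left_of_central (hC e f) p, ← map_pow]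
    exact br_eq_one (central_comm (hc (hpΦ e)) _)
  have hzp : ∀ {u : X}, u ∈ lcsTop X 1 → π u ^ p = 1 := by
    intro u hu
    obtain ⟨m, v, hv, rfl⟩ := hP.gamma_two hX hΦ hu
    rw [map_mul, show π v = 1 by rw [hπ]; exact (QuotientGroup.eq_one_iff _).2 hv, mul_one, map_zpow,
      ← zpow_natCast, ← zpow_mul, mul_comm, zpow_mul, zpow_natCast, hcp, one_zpow]
  have hmulp : ∀ u v : X, π (u * v) ^ p = π u ^ p * π v ^ p := fun u v => by
    rw [map_mul, PGroups.mul_pow_of_central_odd (hC v u) hodd]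
    rw [← map_commutatorElement]
    exact hzp (lcsTop_comm (k := 0) (Subgroup.mem_top v) u)
  have heq : ∀ {u w : X}, u⁻¹ * w ∈ frattini X → π w ^ p = π u ^ p := fun {u w} h => by
    rw [show w = u * (u⁻¹ * w) by rw [mul_inv_cancel_left], hmulp,
      hzp (show u⁻¹ * w ∈ lcsTop X 1 by rw [lcsTop_one, ← hΦ]; exact h), mul_one]
  obtain ⟨hσ, hτ⟩ := hP.fix_gamma_two hX hΦ
  have hfix : ∀ (ρ : MulAut X), (∀ w ∈ lcsTop X 1, w⁻¹ * ρ w ∈ lcsTop X 2) →
      ∀ u : X, π (ρ u) ^ p = π u ^ p := fun ρ hρ u => by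
    rw [← map_pow, ← map_pow, ← map_pow, hπ]
    exact (QuotientGroup.eq.2 (hρ _ (hpΦ u))).symm
  have hf : π f ^ p = 1 := by
    have h := hfix σ hσ e
    rw [heq hP.σe, hmulp] at h
    exact mul_eq_right.1 h
  have he : π e ^ p = 1 := by
    obtain ⟨j, hj, hτf⟩ := hP.τf
    have h := hfix τ hτ f
    rw [heq hτf, hmulp, mul_eq_left, map_zpow, ← zpow_natCast, ← zpow_mul, mul_comm, zpow_mul,
      zpow_natCast] at h
    refine Subgroup.mem_bot.1 (eq_one_of_zpow (K := (⊥ : Subgroup (X ⧸ lcsTop X 2))) ?_ hj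
      (Subgroup.mem_bot.2 h))
    rw [Subgroup.mem_bot, ← map_pow]
    exact hzp (hpΦ e)
  obtain ⟨a, b, φ, hφ, rfl⟩ := hP.gen' hΦ x
  rw [← QuotientGroup.eq_one_iff, ← QuotientGroup.mk'_apply, ← hπ, map_pow, hmulp, hmulp, hzp hφ,
    mul_one, map_zpow, map_zpow, ← zpow_natCast, ← zpow_natCast (π f ^ b), ← zpow_mul, ← zpow_mul,
    mul_comm a, mul_comm b, zpow_mul, zpow_mul, zpow_natCast, zpow_natCast, he, hf, one_zpow,
    one_zpow, one_mul]

end CfsgLib.Fusion.Pearl
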